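import Cfsg.Prelude.Def_OddOrderLocal
import Cfsg.Agent.S0016
import Cfsg.Agent.Lib.Element
import Cfsg.Agent.Coprime.Generation
import Cfsg.Agent.Lib.FrobeniusComplement
import Mathlib.GroupTheory.SpecificGroups.ZGroup

/-!
TI Hall subgroups of π-separable groups.
-/

namespace Cfsg.Agent.FGSev

open Subgroup

variable {G : Type*} [Group G] [Finite G] {H : Subgroup G}

omit [Finite G] in
/-- In a TI situation normalisers of nontrivial subgroups of `H` normalise `H`. -/
theorem normalizer_le_of_ti (hTI : Cfsg.IsTISubset (H : Set G)) {R : Subgroup G} (hRH : R ≤ H)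
    (hR : R ≠ ⊥) : normalizer (R : Set G) ≤ normalizer (H : Set G) := by
  intro g hg
  by_contra hgn
  apply hR
  rw [eq_bot_iff]
  intro x hx
  exact mem_bot.2 (hTI g hgn x (hRH hx) (hRH ((mem_normalizer_iff.1 hg x).1 hx)))

omit [Finite G] in
/-- Centralisers of nontrivial elements of `H` normalise `H`. -/
theorem mem_normalizer_of_commute_ti (hTI : Cfsg.IsTISubset (H : Set G)) {h g : G} (hh : h ∈ H)
    (h1 : h ≠ 1) (hc : g * h = h * g) : g ∈ normalizer (H : Set G) := by
  by_contra hgn
  exact h1 (hTI g hgn h hh (by rw [hc, mul_inv_cancel_right]; exact hh))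

/-- A TI subgroup which is a Hall subgroup of its normalizer is a Hall subgroup. -/
theorem hall_of_ti (hTI : Cfsg.IsTISubset (H : Set G))
    (hHall : (Nat.card H).Coprime (H.subgroupOf (normalizer (H : Set G))).index) :
    (Nat.card H).Coprime H.index := by
  refine Nat.coprime_of_dvd fun r hr hrH hrI => ?_
  haveI := Fact.mk hr
  obtain ⟨R, hR⟩ : ∃ R : Sylow r H, True := ⟨default, trivial⟩
  set R' : Subgroup G := (R : Subgroup H).map H.subtype with hR'
  have hR'H : R' ≤ H := map_subtype_le _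
  have hcR : Nat.card R' = r ^ (Nat.card H).factorization r := by
    rw [hR', card_map_of_injective H.subtype_injective, R.card_eq_multiplicity]
  have hR'ne : R' ≠ ⊥ := fun e => by
    rw [e, card_bot] at hcR
    have := hr.factorization_pos_of_dvd Nat.card_pos.ne' hrH
    exact (Nat.one_lt_pow (by omega) hr.one_lt).ne hcR
  have hdvd : r ^ ((Nat.card H).factorization r + 1) ∣ Nat.card G := by
    rw [← H.card_mul_index, pow_succ]
    exact Nat.mul_dvd_mul (hcR ▸ card_dvd_of_le hR'H) hrI
  obtain ⟨S, hS, hRS⟩ := Sylow.exists_subgroup_card_pow_succ hdvd hcR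
  have hSp : IsPGroup r S := IsPGroup.of_card hS
  have hn : (R'.subgroupOf S).Normal := by
    haveI : Group.IsNilpotent S := hSp.isNilpotent
    refine normal_of_index_eq_minFac_card ?_
    have h1 := (R'.subgroupOf S).card_mul_index
    rw [Nat.card_congr (subgroupOfEquivOfLe hRS).toEquiv, hcR, hS, pow_succ] at h1
    rw [Nat.eq_of_mul_eq_mul_left (pow_pos hr.pos _) h1, hS,
      hr.pow_minFac (Nat.succ_ne_zero _)]
  have hSN : S ≤ normalizer (H : Set G) :=
    (normal_subgroupOf_iff_le_normalizer hRS).1 hn |>.trans (normalizer_le_of_ti hTI hR'H hR'ne)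
  have hd : r ^ ((Nat.card H).factorization r + 1) ∣
      Nat.card H * (H.subgroupOf (normalizer (H : Set G))).index := by
    have e := (H.subgroupOf (normalizer (H : Set G))).card_mul_index
    rw [Nat.card_congr (subgroupOfEquivOfLe le_normalizer).toEquiv] at e
    rw [e, ← hS]
    exact card_dvd_of_le hSN
  have := (Nat.Coprime.pow_left _ (hr.coprime_iff_not_dvd.2 fun h =>
    hr.one_lt.ne' (Nat.eq_one_of_dvd_coprimes hHall hrH h))).dvd_of_dvd_mul_right hd
  exact Nat.pow_succ_factorization_not_dvd Nat.card_pos.ne' hr this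

omit [Finite G] in
theorem ne_bot_of_not_normal (hnn : ¬ H.Normal) : H ≠ ⊥ := fun e => hnn (e ▸ inferInstance)

/-- A nontrivial subgroup of `H` is not normal in `G`. -/
theorem not_normal_of_le_ti (hTI : Cfsg.IsTISubset (H : Set G)) (hnn : ¬ H.Normal)
    {R : Subgroup G} (hRH : R ≤ H) (hR : R ≠ ⊥) : ¬ R.Normal := fun hn => hnn (by
  rw [← normalizer_eq_top_iff, eq_top_iff, ← (normalizer_eq_top_iff (H := R)).2 hn]
  exact normalizer_le_of_ti hTI hRH hR)

/-- The union of the normal subgroups of order coprime to `n` has order coprime to `n`. -/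
theorem coprime_sSup_normal (n : ℕ) :
    (sSup {K : Subgroup G | K.Normal ∧ (Nat.card K).Coprime n}).Normal ∧
      (Nat.card ↥(sSup {K : Subgroup G | K.Normal ∧ (Nat.card K).Coprime n})).Coprime n := by
  obtain ⟨K, ⟨hK, hmax⟩⟩ := (Set.toFinite {K : Subgroup G | K.Normal ∧ (Nat.card K).Coprime n}).exists_maximal
    ⟨⊥, inferInstance, by simp⟩
  have : sSup {K : Subgroup G | K.Normal ∧ (Nat.card K).Coprime n} = K := by
    refine le_antisymm (sSup_le fun L hL => ?_) (le_sSup hK)
    have h2 : K ⊔ L ∈ {K : Subgroup G | K.Normal ∧ (Nat.card K).Coprime n} := by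
      haveI := hK.1
      haveI := hL.1
      refine ⟨inferInstance, Nat.Coprime.coprime_dvd_left ?_ (hK.2.mul_left hL.2)⟩
      rw [← relIndex_bot_left (H := K ⊔ L), ← relIndex_mul_relIndex _ _ _ bot_le (le_sup_left : K ≤ K ⊔ L),
        relIndex_bot_left, sup_comm, relIndex_sup_right]
      exact Nat.mul_dvd_mul_left _ (relIndex_dvd_card K L)
    exact le_trans le_sup_right (hmax h2 le_sup_left)
  rw [this]
  exact hK

/-- The first `π`-layer over `O`. -/
theorem exists_layer (hnb : H ≠ ⊥)
    (hHall : (Nat.card H).Coprime H.index)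
    (hsep : ∃ (n : ℕ) (M : Fin (n + 1) → Subgroup G), M 0 = ⊥ ∧ M (Fin.last n) = ⊤ ∧ Monotone M ∧ (∀ i, (M i).Normal) ∧
      ∀ i : Fin n, (∀ q : ℕ, q.Prime → q ∣ (M i.castSucc).relIndex (M i.succ) → q ∣ Nat.card H) ∨
        ((M i.castSucc).relIndex (M i.succ)).Coprime (Nat.card H))
    {O : Subgroup G} (hO : O = sSup {K : Subgroup G | K.Normal ∧ (Nat.card K).Coprime (Nat.card H)}) :
    ∃ K : Subgroup G, K.Normal ∧ O ≤ K ∧ K ⊓ H ≠ ⊥ ∧ Nat.card K = Nat.card O * Nat.card ↥(K ⊓ H) := by
  obtain ⟨hOn, hOc⟩ := hO ▸ coprime_sSup_normal (G := G) (Nat.card H)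
  haveI := hOn
  obtain ⟨n, M, h0, hlast, -, hMn, hfac⟩ := hsep
  have hOtop : ¬ (⊤ : Subgroup G) ≤ O := fun h => hnb (by
    rw [← card_eq_one]
    exact Nat.eq_one_of_dvd_coprimes hOc ((H.card_subgroup_dvd_card).trans
      (by rw [top_le_iff.1 h, card_top])) dvd_rfl)
  obtain ⟨i, hi1, hi2⟩ : ∃ i : Fin n, M i.castSucc ≤ O ∧ ¬ M i.succ ≤ O := by
    by_contra hcon
    push Not at hcon
    have : ∀ i : Fin (n + 1), M i ≤ O := by
      intro i
      induction i using Fin.induction with
      | zero => rw [h0]; exact bot_le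
      | succ i ih => exact hcon i ih
    exact hOtop (hlast ▸ this _)
  haveI := hMn i.succ
  set K := O ⊔ M i.succ with hK
  have hrel : O.relIndex K ∣ (M i.castSucc).relIndex (M i.succ) := by
    rw [hK, sup_comm, relIndex_sup_right]
    exact relIndex_dvd_of_le_left _ hi1
  have hcardK : Nat.card O * O.relIndex K = Nat.card K := by
    rw [← relIndex_bot_left, ← relIndex_bot_left, relIndex_mul_relIndex _ _ _ bot_le le_sup_left]
  have hpi : ∀ q : ℕ, q.Prime → q ∣ O.relIndex K → q ∣ Nat.card H := by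
    rcases hfac i with h | h
    · exact fun q hq hd => h q hq (hd.trans hrel)
    · exfalso
      apply hi2
      refine le_trans le_sup_right (hO ▸ le_sSup (show K ∈ {K : Subgroup G | K.Normal ∧ (Nat.card K).Coprime (Nat.card H)} from
        ⟨inferInstance, ?_⟩))
      rw [← hcardK]
      exact Nat.Coprime.mul_left hOc (h.coprime_dvd_left hrel)
  have hcop : (Nat.card H).Coprime (H.relIndex K) :=
    hHall.coprime_dvd_right (by
      have e1 : Nat.card H * H.relIndex (H ⊔ K) = Nat.card K * K.relIndex H := by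
        rw [← relIndex_bot_left, ← relIndex_bot_left, ← relIndex_sup_right H K,
          relIndex_mul_relIndex _ _ _ bot_le le_sup_left,
          relIndex_mul_relIndex _ _ _ bot_le le_sup_right]
      have e2 : Nat.card K = Nat.card ↥(K ⊓ H) * H.relIndex K := by
        rw [inf_comm, ← relIndex_bot_left, ← inf_relIndex_right H K, ← relIndex_bot_left,
          relIndex_mul_relIndex _ _ _ bot_le inf_le_right]
      have e3 : Nat.card ↥(K ⊓ H) * K.relIndex H = Nat.card H := by
        rw [← relIndex_bot_left, ← inf_relIndex_right K H, ← relIndex_bot_left,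
          relIndex_mul_relIndex _ _ _ bot_le inf_le_right]
      rw [e2, mul_comm _ (H.relIndex K), mul_assoc, e3, mul_comm (H.relIndex K)] at e1
      rw [← Nat.eq_of_mul_eq_mul_left Nat.card_pos e1]
      exact relIndex_dvd_index_of_le le_sup_left)
  have hmul : Nat.card ↥(K ⊓ H) * H.relIndex K = Nat.card O * O.relIndex K := by
    rw [hcardK, inf_comm, ← relIndex_bot_left, ← inf_relIndex_right H K,
      relIndex_mul_relIndex _ _ _ bot_le inf_le_right, relIndex_bot_left]
  have hc1 : (Nat.card O).Coprime (Nat.card ↥(K ⊓ H)) :=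
    hOc.coprime_dvd_right (card_dvd_of_le inf_le_right)
  have hc2 : (O.relIndex K).Coprime (H.relIndex K) := Nat.coprime_of_dvd fun q hq h1 h2 =>
    hq.one_lt.ne' (Nat.eq_one_of_dvd_coprimes hcop (hpi q hq h1) h2)
  have heq : Nat.card ↥(K ⊓ H) = O.relIndex K := Nat.dvd_antisymm
    (hc1.symm.dvd_of_dvd_mul_left (Dvd.intro _ hmul)) (hc2.dvd_of_dvd_mul_right (hmul ▸ dvd_mul_left _ _))
  refine ⟨K, inferInstance, le_sup_left, fun h => hi2 ?_, by rw [heq, hcardK]⟩
  rw [h, card_bot] at heq
  exact le_trans le_sup_right (relIndex_eq_one.1 heq.symm)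

variable {O : Subgroup G} [O.Normal]

/-- `O` does not normalise `H`. -/
theorem not_le_normalizer_of_layer (hTI : Cfsg.IsTISubset (H : Set G)) (hnn : ¬ H.Normal)
    (hOc : (Nat.card O).Coprime (Nat.card H)) {K : Subgroup G} [hKn : K.Normal] (hOK : O ≤ K)
    (hK : K ⊓ H ≠ ⊥) (hcard : Nat.card K = Nat.card O * Nat.card ↥(K ⊓ H)) :
    ¬ O ≤ normalizer (H : Set G) := by
  intro hle
  apply not_normal_of_le_ti hTI hnn inf_le_right hK
  have hcomm : ∀ o ∈ O, ∀ x ∈ H, o * x = x * o := by
    intro o ho x hx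
    have h1 : o * x * o⁻¹ * x⁻¹ ∈ O ⊓ H := ⟨by
      have := mul_mem ho ((inferInstance : O.Normal).conj_mem _ (inv_mem ho) x)
      simpa [mul_assoc] using this,
      H.mul_mem ((mem_normalizer_iff.1 (hle ho) x).1 hx) (H.inv_mem hx)⟩
    rw [inf_eq_bot_of_coprime hOc, mem_bot] at h1
    exact commutatorElement_eq_one_iff_mul_comm.1 h1
  have hdec : O ⊔ (K ⊓ H) = K := by
    refine eq_of_le_of_card_ge (sup_le hOK inf_le_left) ?_
    rw [hcard]
    refine Nat.le_of_dvd Nat.card_pos ?_
    exact (hOc.coprime_dvd_right (card_dvd_of_le inf_le_right)).mul_dvd_of_dvd_of_dvd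
      (card_dvd_of_le le_sup_left) (card_dvd_of_le le_sup_right)
  have hnorm : ((K ⊓ H).subgroupOf K).Normal := by
    rw [normal_subgroupOf_iff_le_normalizer inf_le_left]
    calc K = O ⊔ (K ⊓ H) := hdec.symm
      _ ≤ _ := sup_le (fun o ho => mem_normalizer_iff.2 fun x => by
          constructor
          · intro hx
            rwa [hcomm o ho x hx.2, mul_inv_cancel_right]
          · intro hx
            have := hcomm o⁻¹ (inv_mem ho) _ hx.2
            have e : o * x * o⁻¹ = x := by
              have h3 : o⁻¹ * (o * x * o⁻¹) * o = o * x * o⁻¹ := by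
                rw [this, inv_mul_cancel_right]
              rw [← h3]
              group
            rwa [e] at hx) le_normalizer
  refine ⟨fun x hx g => ?_⟩
  have hmem := hKn.conj_mem x hx.1 g
  refine Cfsg.Agent.Element.mem_of_coprime_index (N := (K ⊓ H).subgroupOf K) (g := ⟨_, hmem⟩) ?_
  rw [orderOf_mk, ← MulAut.conj_apply, MulEquiv.orderOf_eq]
  have hidx : ((K ⊓ H).subgroupOf K).index = Nat.card O := by
    have e := ((K ⊓ H).subgroupOf K).card_mul_index
    rw [Nat.card_congr (subgroupOfEquivOfLe inf_le_left).toEquiv, hcard, mul_comm (Nat.card O)] at e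
    exact Nat.eq_of_mul_eq_mul_left Nat.card_pos e
  rw [hidx]
  exact hOc.symm.coprime_dvd_left (H.orderOf_dvd_natCard hx.2)

/-- `G = O N_G(H)`. -/
theorem sup_normalizer_eq_top (hTI : Cfsg.IsTISubset (H : Set G))
    (hOc : (Nat.card O).Coprime (Nat.card H)) {K : Subgroup G} [K.Normal] (hOK : O ≤ K)
    (hK : K ⊓ H ≠ ⊥) (hcard : Nat.card K = Nat.card O * Nat.card ↥(K ⊓ H)) :
    O ⊔ normalizer (H : Set G) = ⊤ := by
  obtain ⟨r, hr, hrd⟩ := Nat.exists_prime_and_dvd (fun e => hK (card_eq_one.1 e))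
  haveI := Fact.mk hr
  let R : Sylow r ↥(K ⊓ H) := default
  set R' : Subgroup G := (R : Subgroup ↥(K ⊓ H)).map (K ⊓ H).subtype with hR'
  have hR'KH : R' ≤ K ⊓ H := map_subtype_le _
  have hR'ne : R' ≠ ⊥ := by
    rw [hR', Ne, map_eq_bot_iff_of_injective _ (K ⊓ H).subtype_injective]
    exact R.ne_bot_of_dvd_card hrd
  let P : Sylow r K := Sylow.ofCard (R'.subgroupOf K) (by
    rw [Nat.card_congr (subgroupOfEquivOfLe (hR'KH.trans inf_le_left)).toEquiv, hR',
      card_map_of_injective (K ⊓ H).subtype_injective, R.card_eq_multiplicity, hcard,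
      Nat.factorization_mul Nat.card_pos.ne' Nat.card_pos.ne', Finsupp.add_apply,
      Nat.factorization_eq_zero_of_not_dvd (n := Nat.card O) fun h => hr.one_lt.ne'
        (Nat.eq_one_of_dvd_coprimes hOc h (hrd.trans (card_dvd_of_le inf_le_right))), zero_add])
  have hF := Sylow.normalizer_sup_eq_top P
  have hPR : (P : Subgroup K).map K.subtype = R' :=
    map_subgroupOf_eq_of_le (hR'KH.trans inf_le_left)
  rw [hPR] at hF
  rw [eq_top_iff, ← hF]
  refine sup_le ((normalizer_le_of_ti hTI (hR'KH.trans inf_le_right) hR'ne).trans le_sup_right) ?_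
  have hdec : O ⊔ (K ⊓ H) = K := by
    refine eq_of_le_of_card_ge (sup_le hOK inf_le_left) ?_
    rw [hcard]
    refine Nat.le_of_dvd Nat.card_pos ?_
    exact (hOc.coprime_dvd_right (card_dvd_of_le inf_le_right)).mul_dvd_of_dvd_of_dvd
      (card_dvd_of_le le_sup_left) (card_dvd_of_le le_sup_right)
  rw [← hdec]
  exact sup_le_sup_left (inf_le_right.trans le_normalizer) O

/-- `O H` is normal. -/
theorem sup_normal_of_top (hN : O ⊔ normalizer (H : Set G) = ⊤) : (O ⊔ H).Normal := by
  rw [← normalizer_eq_top_iff, eq_top_iff, ← hN]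
  refine sup_le (le_sup_left.trans le_normalizer) ?_
  intro g hg
  rw [mem_normalizer_iff]
  have key : ∀ g ∈ normalizer (H : Set G), ∀ x ∈ O ⊔ H, g * x * g⁻¹ ∈ O ⊔ H := by
    intro g hg x hx
    have hle : O ⊔ H ≤ (O ⊔ H).comap (MulAut.conj g).toMonoidHom := sup_le
      (fun o ho => le_sup_left (b := H) ((inferInstance : O.Normal).conj_mem o ho g))
      (fun h hh => le_sup_right (a := O) ((mem_normalizer_iff.1 hg h).1 hh))
    exact hle hx
  intro x
  refine ⟨key g hg x, fun h => ?_⟩
  have := key g⁻¹ (inv_mem hg) _ h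
  simpa [mul_assoc] using this

/-- Abelian subgroups of `H` are cyclic. -/
theorem isCyclic_of_abelian_le (hTI : Cfsg.IsTISubset (H : Set G))
    (hOc : (Nat.card O).Coprime (Nat.card H)) (hON : ¬ O ≤ normalizer (H : Set G))
    (A : Subgroup G) [IsMulCommutative A] (hA : A ≤ H) : IsCyclic A := by
  by_contra hc
  apply hON
  have hAO : A ≤ normalizer (O : Set G) := by rw [normalizer_eq_top]; exact le_top
  rw [← Coprime.iSup_centralizer_eq hc hAO (hOc.symm.coprime_dvd_left (card_dvd_of_le hA))]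
  refine iSup₂_le fun a ha g hg => ?_
  exact mem_normalizer_of_commute_ti hTI (hA ha.1) ha.2 (mem_centralizer_singleton_iff.1 hg.2)

/-- A `p`-group whose abelian subgroups are cyclic is cyclic or generalized quaternion. -/
theorem cyclic_or_quaternion_of_abelian_cyclic {P : Type*} [Group P] [Finite P] {p : ℕ}
    [Fact p.Prime] (hP : IsPGroup p P) (hab : ∀ A : Subgroup P, IsMulCommutative A → IsCyclic A) :
    IsCyclic P ∨ (p = 2 ∧ ∃ n : ℕ, Nonempty (P ≃* QuaternionGroup (2 ^ n))) := by
  have hp : p.Prime := Fact.out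
  refine Cfsg.Agent.S0016.result p hP ?_
  rcases subsingleton_or_nontrivial P with hs | hs
  · intro A B hA _
    exact absurd (hA.symm.trans Nat.card_unique) hp.ne_one
  have : Nontrivial (center P) := (nontrivial_iff_ne_bot _).mpr hP.bot_lt_center.ne'
  obtain ⟨z, hz⟩ := exists_prime_orderOf_dvd_card' (G := center P) p (by
    obtain ⟨k, hk⟩ := IsPGroup.iff_card.mp (hP.to_subgroup (center P))
    rw [hk]
    refine dvd_pow_self p ?_
    rintro rfl
    exact (Finite.one_lt_card (α := center P)).ne' (by rw [hk, pow_zero]))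
  have hcardZ : Nat.card (zpowers (z : P)) = p := by rw [Nat.card_zpowers, Subgroup.orderOf_coe, hz]
  suffices key : ∀ A : Subgroup P, Nat.card A = p → A = zpowers (z : P) by
    intro A B hA hB; rw [key A hA, key B hB]
  intro A hA
  have hAc : IsCyclic A := isCyclic_of_prime_card hA
  have hle : zpowers (z : P) ≤ center P := zpowers_le.mpr z.2
  set D := A ⊔ zpowers (z : P) with hD
  have hDc : IsMulCommutative D := by
    have : D = Subgroup.closure ((A : Set P) ∪ (zpowers (z : P) : Set P)) := by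
      rw [hD, Subgroup.closure_union, closure_eq, closure_eq]
    rw [this]
    refine isMulCommutative_closure ?_
    rintro x (hx | hx) y (hy | hy)
    · exact congrArg Subtype.val ((IsCyclic.commGroup (α := A)).mul_comm ⟨x, hx⟩ ⟨y, hy⟩)
    · exact (mem_center_iff.mp (hle hy) x)
    · exact (mem_center_iff.mp (hle hx) y).symm
    · exact (mem_center_iff.mp (hle hy) x)
  have hDcyc : IsCyclic D := hab D hDc
  have e : A.subgroupOf D = (zpowers (z : P)).subgroupOf D := by
    apply FrobeniusCompl.eq_of_card_eq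
    rw [Nat.card_congr (subgroupOfEquivOfLe (le_sup_left : A ≤ D)).toEquiv,
      Nat.card_congr (subgroupOfEquivOfLe (le_sup_right : zpowers (z : P) ≤ D)).toEquiv, hA, hcardZ]
  rwa [subgroupOf_inj, inf_eq_left.mpr le_sup_left, inf_eq_left.mpr le_sup_right] at e

/-- With abelian Sylow `2`-subgroups, `H` is a Z-group. -/
theorem isZGroup_of_ti (hTI : Cfsg.IsTISubset (H : Set G))
    (hOc : (Nat.card O).Coprime (Nat.card H)) (hON : ¬ O ≤ normalizer (H : Set G))
    (h2 : ∀ P : Sylow 2 H, IsMulCommutative (P : Subgroup H)) : IsZGroup H := by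
  refine ⟨fun p hp P => ?_⟩
  haveI := Fact.mk hp
  let f : (P : Subgroup H) →* G := H.subtype.comp (P : Subgroup H).subtype
  have hf : Function.Injective f := H.subtype_injective.comp (P : Subgroup H).subtype_injective
  have hab : ∀ A : Subgroup (P : Subgroup H), IsMulCommutative A → IsCyclic A := by
    intro A hA
    haveI : IsMulCommutative (A.map f) := by
      refine ⟨⟨?_⟩⟩
      rintro ⟨_, ⟨a, ha, rfl⟩⟩ ⟨_, ⟨b, hb, rfl⟩⟩
      apply Subtype.ext
      show f a * f b = f b * f a
      rw [← map_mul, ← map_mul]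
      exact congrArg f (congrArg Subtype.val (hA.is_comm.comm ⟨a, ha⟩ ⟨b, hb⟩))
    have := isCyclic_of_abelian_le hTI hOc hON (A.map f) (by rintro _ ⟨a, -, rfl⟩; exact (a : H).2)
    exact isCyclic_of_surjective _ (A.equivMapOfInjective f hf).symm.surjective
  rcases cyclic_or_quaternion_of_abelian_cyclic P.2 hab with h | ⟨rfl, -⟩
  · exact h
  · have hPc := h2 P
    haveI : IsCyclic (⊤ : Subgroup (P : Subgroup H)) := hab ⊤ ⟨⟨fun a b =>
      Subtype.ext (hPc.is_comm.comm (a : (P : Subgroup H)) b)⟩⟩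
    exact isCyclic_of_surjective _ topEquiv.surjective

end Cfsg.Agent.FGSev
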