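import Cfsg.Agent.Perm.PrimeDegree
import Cfsg.Agent.PermP.PrimeCycle
import Cfsg.Agent.Perm.JordanCycle
import Mathlib.GroupTheory.SpecificGroups.Alternating.Simple
import Mathlib.GroupTheory.Transfer
import Mathlib.FieldTheory.Finite.Basic

/-!
Primitive groups of degree six, seven and thirteen containing prime cycles of nearly full length.
-/

namespace Cfsg.Agent.FGSev

open MulAction Equiv Equiv.Perm

variable {α : Type*} [Fintype α] [DecidableEq α]

/-- A subgroup of small index in a simple group is everything. -/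
theorem eq_top_of_index_factorial_lt {A : Type*} [Group A] [Finite A] [IsSimpleGroup A]
    (K : Subgroup A) (h : K.index.factorial < Nat.card A) : K = ⊤ := by
  rcases IsSimpleGroup.eq_bot_or_eq_top_of_normal K.normalCore (Subgroup.normalCore_normal K) with
    hb | ht
  · exfalso
    have inj : Function.Injective (MulAction.toPermHom A (A ⧸ K)) := by
      rw [← MonoidHom.ker_eq_bot_iff, ← Subgroup.normalCore_eq_ker, hb]
    have := Nat.card_le_card_of_injective _ inj
    rw [Nat.card_perm, ← Subgroup.index_eq_card] at this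
    omega
  · exact top_le_iff.1 (ht ▸ K.normalCore_le)

/-- The order of a subgroup of the alternating group and its index there. -/
theorem card_mul_index_alt (G : Subgroup (Perm α)) (hA : G ≤ alternatingGroup α)
    (h2 : 2 ≤ Fintype.card α) :
    Nat.card G * (G.subgroupOf (alternatingGroup α)).index = (Fintype.card α).factorial / 2 := by
  haveI : Nontrivial α := Fintype.one_lt_card_iff_nontrivial.1 h2
  rw [← Nat.card_congr (Subgroup.subgroupOfEquivOfLe hA).toEquiv, Subgroup.card_mul_index,
    nat_card_alternatingGroup, Nat.card_eq_fintype_card]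

/-- A subgroup of small index in the alternating group contains it. -/
theorem alt_le_of_index_lt (G : Subgroup (Perm α)) (h5 : 5 ≤ Fintype.card α)
    (h : (G.subgroupOf (alternatingGroup α)).index.factorial < (Fintype.card α).factorial / 2) :
    alternatingGroup α ≤ G := by
  haveI : Nontrivial α := Fintype.one_lt_card_iff_nontrivial.1 (by omega)
  haveI := alternatingGroup.isSimpleGroup (α := α) (by rwa [Nat.card_eq_fintype_card])
  rw [← Subgroup.subgroupOf_eq_top]
  apply eq_top_of_index_factorial_lt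
  rwa [nat_card_alternatingGroup, Nat.card_eq_fintype_card]

/-- The conjugation action on a cyclic group of prime order. -/
theorem commute_pow_sub_one_of_conj_eq_pow {G : Type*} [Group G] {x t : G} {p r : ℕ}
    (hp : p.Prime) (hx : orderOf x = p) (h : t * x * t⁻¹ = x ^ r) :
    Commute (t ^ (p - 1)) x := by
  have hk : ∀ k : ℕ, t ^ k * x * (t ^ k)⁻¹ = x ^ (r ^ k) := by
    intro k
    induction k with
    | zero => simp
    | succ k ih =>
      rw [show t ^ (k + 1) * x * (t ^ (k + 1))⁻¹ = t * (t ^ k * x * (t ^ k)⁻¹) * t⁻¹ by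
        rw [pow_succ']; group, ih, ← conj_pow, h, ← pow_mul, pow_succ']
  have hr : ¬ p ∣ r := by
    intro hd
    rw [orderOf_dvd_iff_pow_eq_one.1 (hx.symm ▸ hd), conj_eq_one_iff] at h
    rw [h, orderOf_one] at hx
    exact hp.one_lt.ne hx
  have hmod : r ^ (p - 1) ≡ 1 [MOD p] := by
    have h1 := Nat.ModEq.pow_totient ((hp.coprime_iff_not_dvd.2 hr).symm)
    rwa [Nat.totient_prime hp] at h1
  have h2 := hk (p - 1)
  have h3 : x ^ r ^ (p - 1) = x ^ 1 := pow_eq_pow_iff_modEq.2 (by rw [hx]; exact hmod)
  rw [h3, pow_one] at h2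
  exact mul_inv_eq_iff_eq_mul.1 h2

/-- A primitive group containing a prime cycle fixing two points is triply transitive. -/
theorem three_pretransitive_of_cycle (G : Subgroup (Perm α)) (hG : IsPreprimitive G α)
    {p : ℕ} (hp : p.Prime) {x : Perm α} (hxc : x.IsCycle) (hxs : x.support.card = p)
    (hx : x ∈ G) (hn : Fintype.card α = p + 2) : IsMultiplyPretransitive G α 3 := by
  set S : Set α := (x.support : Set α)ᶜ with hS
  have hScard : S.ncard = 1 + 1 := by
    have h1 : S.ncard + p = Fintype.card α := by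
      rw [hS, ← hxs, ← Set.ncard_coe_finset, add_comm, Set.ncard_add_ncard_compl,
        Nat.card_eq_fintype_card]
    omega
  have hprim : IsPreprimitive (fixingSubgroup G S) (SubMulAction.ofFixingSubgroup G S) := by
    have := Equiv.Perm.isPretransitive_of_isCycle_mem hxc hx
    apply IsPreprimitive.of_prime_card
    have h1 : Nat.card (SubMulAction.ofFixingSubgroup G S) = Sᶜ.ncard := rfl
    rw [h1, hS, compl_compl, Set.ncard_coe_finset, hxs]
    exact hp
  have hmp := hG.isMultiplyPreprimitive hScard (by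
    have := hp.two_le
    rw [Nat.card_eq_fintype_card]; omega) hprim
  exact hmp.isMultiplyPretransitive

theorem exists_mem_map_three (G : Subgroup (Perm α)) (h3 : IsMultiplyPretransitive G α 3)
    {a b c a' b' c' : α} (hab : a ≠ b) (hac : a ≠ c) (hbc : b ≠ c) (hab' : a' ≠ b')
    (hac' : a' ≠ c') (hbc' : b' ≠ c') : ∃ g ∈ G, g a = a' ∧ g b = b' ∧ g c = c' := by
  rw [isMultiplyPretransitive_iff] at h3
  let e : Fin 3 ↪ α := ⟨![a, b, c], by
    intro i j h; fin_cases i <;> fin_cases j <;> simp_all [eq_comm]⟩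
  let e' : Fin 3 ↪ α := ⟨![a', b', c'], by
    intro i j h; fin_cases i <;> fin_cases j <;> simp_all [eq_comm]⟩
  obtain ⟨g, hg⟩ := h3 e e'
  exact ⟨g, g.2, DFunLike.congr_fun hg 0, DFunLike.congr_fun hg 1, DFunLike.congr_fun hg 2⟩

theorem descFactorial_three_dvd (G : Subgroup (Perm α)) (h3 : IsMultiplyPretransitive G α 3)
    (hn : 3 ≤ Fintype.card α) : (Fintype.card α).descFactorial 3 ∣ Nat.card G := by
  obtain ⟨e⟩ : Nonempty (Fin 3 ↪ α) := Function.Embedding.nonempty_of_card_le (by simpa using hn)
  rw [isMultiplyPretransitive_iff] at h3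
  have h := Subgroup.index_dvd_card (stabilizer G e)
  rw [index_stabilizer] at h
  convert h using 1
  have hc := Fintype.card_embedding_eq (α := Fin 3) (β := α)
  rw [Fintype.card_fin] at hc
  rw [← hc, ← Nat.card_eq_fintype_card, ← Set.ncard_univ]
  refine congrArg Set.ncard (Set.eq_univ_of_forall fun e' => ?_).symm
  obtain ⟨g, hg⟩ := h3 e e'
  refine ⟨g, ?_⟩
  ext i
  exact DFunLike.congr_fun hg i

theorem sign_eq_neg_one_of_reflection {S : Type*} [Fintype S] [DecidableEq S] {p : ℕ}
    [NeZero p] (e : ZMod p ≃ S) {u : Perm S} (hu : ∀ j, u (e j) = e (-j))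
    (hneg : Perm.sign (Equiv.neg (ZMod p)) = -1) : Perm.sign u = -1 := by
  have : u = e.permCongr (Equiv.neg (ZMod p)) := by
    ext z
    obtain ⟨j, rfl⟩ := e.surjective z
    simp [hu]
  rw [this, Perm.sign_permCongr, hneg]

/-- In degree seven, a transitive triply transitive group of even permutations contains `Alt`. -/
theorem alt_le_seven (G : Subgroup (Perm α)) (hG : IsPreprimitive G α)
    (hA : G ≤ alternatingGroup α) (hn : Fintype.card α = 7) {x : Perm α} (hxc : x.IsCycle)
    (hxs : x.support.card = 5) (hx : x ∈ G) : alternatingGroup α ≤ G := by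
  have h3 := three_pretransitive_of_cycle G hG (by norm_num) hxc hxs hx (by omega)
  have hdvd := descFactorial_three_dvd G h3 (by omega)
  have hmul := card_mul_index_alt G hA (by omega)
  rw [hn] at hdvd hmul
  obtain ⟨j, hj⟩ := hdvd
  rw [hj, show Nat.descFactorial 7 3 = 210 by rfl, show Nat.factorial 7 / 2 = 2520 by rfl] at hmul
  rw [show Nat.descFactorial 7 3 = 210 by rfl] at hj
  set k := (G.subgroupOf (alternatingGroup α)).index with hk
  have hjk : j * k = 12 := by
    apply Nat.eq_of_mul_eq_mul_left (show 0 < 210 by norm_num)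
    rw [← mul_assoc, hmul]
  by_cases hk7 : k < 7
  · apply alt_le_of_index_lt G (by omega)
    rw [← hk, hn]
    interval_cases k <;> decide
  exfalso
  have hj1 : j = 1 := by
    rcases Nat.lt_or_ge j 2 with h | h
    · interval_cases j <;> omega
    · nlinarith
  subst hj1
  haveI : Fact (Nat.Prime 7) := ⟨by norm_num⟩
  let P : Sylow 7 G := default
  have hP : Nat.card (P : Subgroup G) = 7 := PermLib.card_sylow_of_prime_degree hn P
  have hPi : (P : Subgroup G).index = 30 := by
    have := (P : Subgroup G).card_mul_index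
    rw [hP, hj] at this
    omega
  have hd : Nat.card (Sylow 7 G) ∣ 30 := hPi ▸ P.card_dvd_index
  have hmod : Nat.card (Sylow 7 G) ≡ 1 [MOD 7] := card_sylow_modEq_one 7 G
  have hcases : Nat.card (Sylow 7 G) = 1 ∨ Nat.card (Sylow 7 G) = 15 := by
    have hle := Nat.le_of_dvd (by norm_num) hd
    unfold Nat.ModEq at hmod
    interval_cases hc : Nat.card (Sylow 7 G) <;> omega
  rcases hcases with h1 | h15
  · obtain ⟨⟨y, hyP⟩, hy⟩ := exists_prime_orderOf_dvd_card' (G := (P : Subgroup G)) 7 hP.symm.dvd
    rw [← Subgroup.orderOf_coe] at hy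
    change orderOf y = 7 at hy
    have hz : Subgroup.zpowers y = (P : Subgroup G) := by
      refine Subgroup.eq_of_le_of_card_ge (Subgroup.zpowers_le.2 hyP) ?_
      rw [Nat.card_zpowers, hy, hP]
    haveI : Subsingleton (Sylow 7 G) := (Nat.card_eq_one_iff_unique.1 h1).1
    have hN : (P : Subgroup G).Normal := P.normal_of_subsingleton
    obtain ⟨r, hr⟩ : ∃ r : ℕ, (⟨x, hx⟩ : G) * y * ⟨x, hx⟩⁻¹ = y ^ r := by
      have := hN.conj_mem y hyP ⟨x, hx⟩
      rw [← hz, ← mem_powers_iff_mem_zpowers] at this
      obtain ⟨r, hr⟩ := this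
      exact ⟨r, hr.symm⟩
    have hc6 := commute_pow_sub_one_of_conj_eq_pow (by norm_num) hy hr
    have hx5 : (⟨x, hx⟩ : G) ^ 5 = 1 := by
      apply Subtype.ext
      show x ^ 5 = 1
      rw [← hxs, ← hxc.orderOf, pow_orderOf_eq_one]
    rw [show (7 - 1 : ℕ) = 5 + 1 by rfl, pow_succ, hx5, one_mul] at hc6
    have hyo : orderOf (y : Perm α) = Fintype.card α := by rw [Subgroup.orderOf_coe, hy, hn]
    have hyc : (y : Perm α).IsCycle :=
      isCycle_of_prime_order' (by rw [hyo, hn]; norm_num) (by omega)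
    have hys : (y : Perm α).support = Finset.univ := by
      apply Finset.eq_univ_of_card
      rw [← hyc.orderOf, hyo]
    obtain ⟨i, hi⟩ := PermLib.exists_pow_eq_on_support hyc (congrArg Subtype.val hc6 : _)
    have hxy : x = (y : Perm α) ^ i := Perm.ext fun z => hi z (by rw [hys]; exact Finset.mem_univ z)
    have h57 : orderOf x ∣ 7 := by
      rw [hxy, show (7 : ℕ) = orderOf (y : Perm α) by rw [hyo, hn]]
      exact orderOf_dvd_of_mem_zpowers ⟨i, rfl⟩
    rw [hxc.orderOf, hxs] at h57
    omega
  · have h14 : Nat.card (Subgroup.normalizer ((P : Subgroup G) : Set G)) = 14 := by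
      have h1 := (Subgroup.normalizer ((P : Subgroup G) : Set G)).card_mul_index
      have h2 : (Subgroup.normalizer ((P : Subgroup G) : Set G)).index = 15 := by
        rw [← h15, Sylow.card_eq_index_normalizer P]; rfl
      rw [h2, hj] at h1
      omega
    obtain ⟨e, σ, t, -, -, -, -, he⟩ :=
      PermLib.exists_coords_of_even_normalizer (by norm_num) hn P (by rw [h14]; decide)
    have h1 : Perm.sign (t : Perm α) = 1 := mem_alternatingGroup.1 (hA t.2)
    rw [sign_eq_neg_one_of_reflection e he (by decide)] at h1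
    exact absurd h1 (by decide)

/-- In degree six a transitive group of even permutations with an element of order five is
`Alt` or `Alt 5`. -/
theorem alt_six (G : Subgroup (Perm α)) [IsPretransitive G α] (hA : G ≤ alternatingGroup α)
    (hn : Fintype.card α = 6) {y : Perm α} (hy : orderOf y = 5) (hyG : y ∈ G) :
    alternatingGroup α ≤ G ∨ Nonempty (G ≃* alternatingGroup (Fin 5)) := by
  haveI : Nonempty α := Fintype.card_pos_iff.1 (by omega)
  have h6 : 6 ∣ Nat.card G := by
    rw [← hn, ← Nat.card_eq_fintype_card]; exact PermLib.card_dvd_card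
  have h5 : 5 ∣ Nat.card G := by
    have h := orderOf_dvd_natCard (⟨y, hyG⟩ : G)
    rwa [Subgroup.orderOf_mk, hy] at h
  obtain ⟨j, hj⟩ := (Nat.Coprime.mul_dvd_of_dvd_of_dvd (by norm_num) h6 h5 : 6 * 5 ∣ Nat.card G)
  have hmul := card_mul_index_alt G hA (by omega)
  set K := G.subgroupOf (alternatingGroup α) with hK
  rw [hj, hn, show Nat.factorial 6 / 2 = 360 by rfl] at hmul
  have hjk : j * K.index = 12 := by
    apply Nat.eq_of_mul_eq_mul_left (show 0 < 30 by norm_num)
    rw [← mul_assoc]; exact hmul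
  by_cases hk6 : K.index < 6
  · left
    apply alt_le_of_index_lt G (by omega)
    rw [← hK, hn]
    interval_cases K.index <;> decide
  have hjle : j ≤ 2 := by
    by_contra h; nlinarith
  interval_cases j
  · omega
  · exfalso
    obtain ⟨⟨t, htG⟩, ht⟩ := exists_prime_orderOf_dvd_card' (G := G) 2 (by rw [hj]; norm_num)
    rw [Subgroup.orderOf_mk] at ht
    obtain ⟨k, hk⟩ := cycleType_prime_order (σ := t) (by rw [ht]; norm_num)
    rw [ht] at hk
    have hsupp : t.support.card = 2 * (k + 1) := by
      rw [← sum_cycleType, hk, Multiset.sum_replicate, smul_eq_mul, mul_comm]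
    have hle : t.support.card ≤ 6 := hn ▸ Finset.card_le_univ _
    have hs : Perm.sign t = 1 := mem_alternatingGroup.1 (hA htG)
    rw [sign_of_cycleType, hk, Multiset.sum_replicate, Multiset.card_replicate, smul_eq_mul] at hs
    have hk1 : k = 1 := by
      have : k ≤ 2 := by omega
      interval_cases k
      · exact absurd hs (by decide)
      · rfl
      · exact absurd hs (by decide)
    obtain ⟨c, hc⟩ : ∃ c, c ∉ t.support := by
      by_contra h
      push Not at h
      rw [Finset.eq_univ_of_forall h, Finset.card_univ, hn, hk1] at hsupp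
      omega
    have hst : Nat.card (stabilizer G c) = 5 := by
      have := PermLib.card_eq_mul_card_stabilizer (G := G) c
      rw [hj, Nat.card_eq_fintype_card (α := α), hn] at this
      omega
    have h25 := orderOf_dvd_natCard
      (⟨⟨t, htG⟩, Perm.notMem_support.1 hc⟩ : stabilizer G c)
    rw [hst, ← Subgroup.orderOf_coe, ← Subgroup.orderOf_coe] at h25
    change orderOf t ∣ 5 at h25
    rw [ht] at h25
    omega
  · right
    have hidx : K.index = 6 := by omega
    haveI : Nontrivial α := Fintype.one_lt_card_iff_nontrivial.1 (by omega)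
    haveI := alternatingGroup.isSimpleGroup (α := α) (by rw [Nat.card_eq_fintype_card]; omega)
    let Q := alternatingGroup α ⧸ K
    haveI : Fintype Q := Fintype.ofFinite Q
    haveI : DecidableEq Q := Classical.decEq Q
    have hQ : Nat.card Q = 6 := hidx
    let φ := MulAction.toPermHom (alternatingGroup α) Q
    have hKne : K ≠ ⊤ := fun h => by rw [h, Subgroup.index_top] at hidx; omega
    have hinj : Function.Injective φ := by
      rw [← MonoidHom.ker_eq_bot_iff, ← Subgroup.normalCore_eq_ker]
      exact (IsSimpleGroup.eq_bot_or_eq_top_of_normal _ (Subgroup.normalCore_normal K)).resolve_right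
        fun h => hKne (top_le_iff.1 (h ▸ K.normalCore_le))
    have hsign : ∀ g, Perm.sign (φ g) = 1 := by
      have h1 : (Perm.sign.comp φ).ker = ⊤ := by
        refine (IsSimpleGroup.eq_bot_or_eq_top_of_normal _ (MonoidHom.normal_ker _)).resolve_left
          fun hb => ?_
        have := Nat.card_le_card_of_injective _ ((MonoidHom.ker_eq_bot_iff _).1 hb)
        rw [nat_card_alternatingGroup, Nat.card_eq_fintype_card, hn, Nat.card_eq_fintype_card,
          Fintype.card_units_int] at this
        revert this; decide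
      intro g
      exact MonoidHom.mem_ker.1 (show g ∈ (Perm.sign.comp φ).ker from h1 ▸ Subgroup.mem_top g)
    let q₀ : Q := QuotientGroup.mk 1
    have hfix : ∀ k : K, φ k q₀ = q₀ := fun k => by
      show (k : alternatingGroup α) • q₀ = q₀
      rw [MulAction.Quotient.smul_mk, smul_eq_mul, mul_one, QuotientGroup.eq, mul_one]
      exact K.inv_mem k.2
    have hst : ∀ (k : K) z, φ k z ≠ q₀ ↔ z ≠ q₀ := fun k z => by
      refine not_congr ⟨fun h => (φ k).injective (h.trans (hfix k).symm), ?_⟩
      rintro rfl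
      exact hfix k
    let r : K →* Perm {z : Q // z ≠ q₀} :=
      MonoidHom.mk' (fun k => (φ k).subtypePerm (hst k)) fun a b => by
        ext z
        show φ ((a : alternatingGroup α) * b) z = φ a (φ b z)
        rw [map_mul, Perm.mul_apply]
    have hr : Function.Injective r := by
      intro a b h
      apply Subtype.ext
      apply hinj
      ext z
      by_cases hz : z = q₀
      · rw [hz, hfix a, hfix b]
      · exact congrArg Subtype.val (DFunLike.congr_fun h ⟨z, hz⟩)
    have hrA : ∀ k, r k ∈ alternatingGroup {z : Q // z ≠ q₀} := fun k => by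
      rw [mem_alternatingGroup]
      show Perm.sign ((φ k).subtypePerm (hst k)) = 1
      exact (sign_subtypePerm (p := fun z : Q => z ≠ q₀) (φ k) (hst k)
        (fun z hz hq => hz ((congrArg (φ k) hq).trans ((hfix k).trans hq.symm)))).trans
        (hsign _)
    have hc5 : Fintype.card {z : Q // z ≠ q₀} = 5 := by
      rw [Fintype.card_subtype_compl, Fintype.card_subtype_eq, ← Nat.card_eq_fintype_card, hQ]
    have hcK : Nat.card K = 60 := by
      rw [hK, Nat.card_congr (Subgroup.subgroupOfEquivOfLe hA).toEquiv, hj]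
    haveI : Nontrivial {z : Q // z ≠ q₀} := Fintype.one_lt_card_iff_nontrivial.1 (by omega)
    let r' : K →* alternatingGroup {z : Q // z ≠ q₀} := r.codRestrict _ hrA
    have hbij : Function.Bijective r' := by
      refine (Nat.bijective_iff_injective_and_card r').2
        ⟨fun a b h => hr (congrArg Subtype.val h :), ?_⟩
      rw [hcK, nat_card_alternatingGroup, Nat.card_eq_fintype_card, hc5]
      rfl
    exact ⟨(Subgroup.subgroupOfEquivOfLe hA).symm.trans ((MulEquiv.ofBijective r' hbij).trans
      (Equiv.altCongrHom (Fintype.equivFinOfCardEq hc5)))⟩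

/-- A double five-cycle with three fixed points in a triply transitive group yields `Alt`. -/
theorem alt_le_thirteen_of_five (G : Subgroup (Perm α)) (hG : IsPreprimitive G α)
    (hn : Fintype.card α = 13) (h3 : IsMultiplyPretransitive G α 3)
    (h5 : 5 ∣ Nat.card G) : alternatingGroup α ≤ G := by
  haveI : Fact (Nat.Prime 5) := ⟨by norm_num⟩
  by_cases hcyc : ∃ g ∈ G, g.IsCycle ∧ g.support.card = 5
  · obtain ⟨g, hg, hgc, hgs⟩ := hcyc
    exact PermP.alternatingGroup_le_of_primeCycle G hG (by norm_num) (by omega) hgc hgs hg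
  obtain ⟨⟨g, hg⟩, hgo⟩ := exists_prime_orderOf_dvd_card' (G := G) 5 h5
  rw [Subgroup.orderOf_mk] at hgo
  obtain ⟨k, hk⟩ := cycleType_prime_order (σ := g) (by rw [hgo]; norm_num)
  rw [hgo] at hk
  have hsupp : g.support.card = 10 := by
    have h1 : g.support.card = 5 * (k + 1) := by
      rw [← sum_cycleType, hk, Multiset.sum_replicate, smul_eq_mul, mul_comm]
    have h2 : g.support.card ≤ 13 := hn ▸ Finset.card_le_univ _
    rcases Nat.eq_zero_or_pos k with rfl | hk0
    · exact absurd ⟨g, hg, card_cycleType_eq_one.1 (by rw [hk, Multiset.card_replicate]), h1⟩ hcyc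
    · omega
  obtain ⟨a, b, c, hab, hac, hbc, habc⟩ :=
    Finset.card_eq_three.1 (show g.supportᶜ.card = 3 by rw [Finset.card_compl, hn, hsupp])
  have hfix : ∀ z, g z = z ↔ z = a ∨ z = b ∨ z = c := fun z => by
    rw [← Perm.notMem_support, ← Finset.mem_compl, habc]; simp
  -- orbits of `g` on its support
  have hord : ∀ z ∈ g.support, (g.cycleOf z).support.card = 5 := by
    intro z hz
    have hc' := isCycle_cycleOf g (Perm.mem_support.1 hz)
    have hm : (g.cycleOf z).support.card ∈ g.cycleType := by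
      rw [cycleType_def, Multiset.mem_map]
      exact ⟨g.cycleOf z, cycleOf_mem_cycleFactorsFinset_iff.2 hz, rfl⟩
    rw [hk] at hm
    exact Multiset.eq_of_mem_replicate hm
  have htwo : ∀ z₁ z₂ z₃, z₁ ∈ g.support → z₂ ∈ g.support → z₃ ∈ g.support →
      SameCycle g z₁ z₂ ∨ SameCycle g z₁ z₃ ∨ SameCycle g z₂ z₃ := by
    intro z₁ z₂ z₃ h1 h2 h3'
    by_contra hno
    push Not at hno
    have hdis : ∀ u v, ¬ SameCycle g u v →
        Disjoint (g.cycleOf u).support (g.cycleOf v).support := fun u v huv => by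
      rw [Finset.disjoint_left]
      intro z hzu hzv
      rw [mem_support_cycleOf_iff] at hzu hzv
      exact huv (hzu.1.trans hzv.1.symm)
    have hu : ((g.cycleOf z₁).support ∪ (g.cycleOf z₂).support ∪ (g.cycleOf z₃).support).card
        = 15 := by
      rw [Finset.card_union_of_disjoint (Finset.disjoint_union_left.2
          ⟨hdis _ _ hno.2.1, hdis _ _ hno.2.2⟩), Finset.card_union_of_disjoint (hdis _ _ hno.1),
        hord _ h1, hord _ h2, hord _ h3']
    have := Finset.card_le_univ
      ((g.cycleOf z₁).support ∪ (g.cycleOf z₂).support ∪ (g.cycleOf z₃).support)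
    omega
  -- elements commuting with `g`
  have hsq : ∀ w : Perm α, Commute w g → ∀ z ∈ g.support,
      ∃ i : ℤ, (w ^ 2) z = (g ^ i) z := by
    intro w hw z hz
    have hpres : ∀ z, z ∈ g.support → w z ∈ g.support := fun z hz => by
      rw [Perm.mem_support] at hz ⊢
      intro e
      apply hz
      apply w.injective
      rw [← Perm.mul_apply, hw.eq, Perm.mul_apply, e]
    have hsc : ∀ u v, SameCycle g (w u) (w v) → SameCycle g u v := by
      rintro u v ⟨i, hi⟩
      refine ⟨i, w.injective ?_⟩
      rw [← Perm.mul_apply, (hw.zpow_right i).eq, Perm.mul_apply, hi]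
    have hsc' : ∀ u v, SameCycle g u v → SameCycle g (w u) (w v) := by
      rintro u v ⟨i, hi⟩
      refine ⟨i, ?_⟩
      rw [← hi, ← Perm.mul_apply w, (hw.zpow_right i).eq, Perm.mul_apply]
    have : SameCycle g z (w (w z)) := by
      rcases htwo z (w z) (w (w z)) hz (hpres _ hz) (hpres _ (hpres _ hz)) with h | h | h
      · exact h.trans (hsc' _ _ h)
      · exact h
      · exact (hsc _ _ h).trans h
    obtain ⟨i, hi⟩ := this
    exact ⟨i, by rw [pow_two, Perm.mul_apply, hi]⟩
  have hten : ∀ w : Perm α, Commute w g → ∀ z ∈ g.support, (w ^ 10) z = z := by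
    intro w hw z hz
    obtain ⟨i, hi⟩ := hsq w hw z hz
    have : ∀ m : ℕ, ((w ^ 2) ^ m) z = (g ^ (i * m)) z := by
      intro m
      induction m with
      | zero => simp
      | succ m ih =>
        rw [pow_succ', Perm.mul_apply, ih, ← Perm.mul_apply,
          ((hw.pow_left 2).zpow_right _).eq, Perm.mul_apply, hi, ← Perm.mul_apply, ← zpow_add]
        congr 2
        push_cast; ring
    rw [show w ^ 10 = (w ^ 2) ^ 5 by rw [← pow_mul], this 5, mul_comm, zpow_mul,
      zpow_natCast, ← hgo, pow_orderOf_eq_one, one_zpow, Perm.one_apply]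
  -- the Sylow five-subgroups have order five
  have h25 : ¬ 25 ∣ Nat.card G := by
    intro h
    obtain ⟨S, hS, hgS⟩ : ∃ S : Subgroup G, Nat.card S = 5 ^ 2 ∧
        Subgroup.zpowers (⟨g, hg⟩ : G) ≤ S :=
      Sylow.exists_subgroup_card_pow_prime_le 5 (by simpa using h)
        (n := 1) (H := Subgroup.zpowers (⟨g, hg⟩ : G))
        (by rw [Nat.card_zpowers, Subgroup.orderOf_mk, hgo, pow_one]) (by norm_num)
    obtain ⟨w, hwS, hw⟩ : ∃ w ∈ S, w ∉ Subgroup.zpowers (⟨g, hg⟩ : G) := by
      by_contra hcon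
      push Not at hcon
      have := Subgroup.card_le_of_le (show S ≤ Subgroup.zpowers (⟨g, hg⟩ : G) from hcon)
      rw [hS, Nat.card_zpowers, Subgroup.orderOf_mk, hgo] at this
      omega
    haveI : IsMulCommutative S :=
      ⟨⟨fun u v => (IsPGroup.commutative_of_card_eq_prime_sq hS) u v⟩⟩
    have hcg : Commute (w : Perm α) g := by
      have := congrArg Subtype.val (mul_comm' (⟨w, hwS⟩ : S) ⟨⟨g, hg⟩, hgS
        (Subgroup.mem_zpowers _)⟩)
      exact congrArg Subtype.val this
    have hw25 : (w : Perm α) ^ 25 = 1 := by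
      have := pow_card_eq_one' (x := (⟨w, hwS⟩ : S))
      rw [hS] at this
      exact congrArg (Subtype.val ∘ Subtype.val) this
    have hw6 : ∀ z, g z = z → ((w : Perm α) ^ 6) z = z := by
      have hp : ∀ z, g z = z → g ((w : Perm α) z) = (w : Perm α) z := fun z hz => by
        rw [← Perm.mul_apply, ← hcg.eq, Perm.mul_apply, hz]
      intro z hz
      let r := ((w : Perm α)).subtypePerm (p := fun z => g z = z) fun z =>
        ⟨fun h => (w : Perm α).injective (by rw [← Perm.mul_apply, hcg.eq, Perm.mul_apply, h]),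
          hp z⟩
      have hr : r ^ 6 = 1 := by
        rw [← orderOf_dvd_iff_pow_eq_one]
        refine (orderOf_dvd_natCard r).trans ?_
        rw [Nat.card_perm, Nat.card_eq_fintype_card, Fintype.card_subtype,
          show Finset.univ.filter (fun z => g z = z) = {a, b, c} by ext z; simp [hfix z]]
        rw [Finset.card_eq_three.2 ⟨a, b, c, hab, hac, hbc, rfl⟩]
        rfl
      have := congrArg Subtype.val (DFunLike.congr_fun hr ⟨z, hz⟩)
      simpa [r, subtypePerm_pow] using this
    have hw5 : (w : Perm α) ^ 5 = 1 := by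
      have h30 : (w : Perm α) ^ 30 = 1 := by
        ext z
        rw [Perm.one_apply]
        by_cases hz : g z = z
        · rw [show (30 : ℕ) = 6 * 5 by rfl, pow_mul]
          exact pow_apply_eq_self_of_apply_eq_self (hw6 z hz) 5
        · rw [show (30 : ℕ) = 10 * 3 by rfl, pow_mul]
          exact pow_apply_eq_self_of_apply_eq_self (hten _ hcg z (Perm.mem_support.2 hz)) 3
      exact (pow_gcd_eq_one (m := 30) (n := 25)).2 ⟨h30, hw25⟩
    have hwfix : ∀ z, g z = z → (w : Perm α) z = z := fun z hz => by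
      have h := hw6 z hz
      rwa [show (6 : ℕ) = 5 + 1 by rfl, pow_succ, hw5, one_mul] at h
    obtain ⟨z, hz⟩ := Finset.card_pos.1 (show 0 < g.support.card by omega)
    obtain ⟨i, hi⟩ := hsq _ hcg z hz
    let v : G := w ^ 2 * ((⟨g, hg⟩ : G) ^ i)⁻¹
    have hvC : Commute ((v : G) : Perm α) g :=
      ((hcg.pow_left 2).mul_left ((Commute.refl g).zpow_left i).inv_left)
    have hv5 : ((v : G) : Perm α) ^ 5 = 1 := by
      show ((w : Perm α) ^ 2 * (g ^ i)⁻¹) ^ 5 = 1
      rw [((hcg.pow_left 2).zpow_right i).inv_right.mul_pow, ← pow_mul, show 2 * 5 = 5 * 2 by rfl,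
        pow_mul, hw5, one_pow, one_mul, inv_pow, ← zpow_natCast, ← zpow_mul, mul_comm, zpow_mul,
        zpow_natCast, ← hgo, pow_orderOf_eq_one, one_zpow, inv_one]
    by_cases hv1 : v = 1
    · apply hw
      have hw2 : w ^ 2 ∈ Subgroup.zpowers (⟨g, hg⟩ : G) := by
        rw [mul_inv_eq_one.1 hv1]; exact ⟨i, rfl⟩
      have hw6' : w = (w ^ 2) ^ 3 := by
        rw [← pow_mul]
        apply Subtype.ext
        show (w : Perm α) = (w : Perm α) ^ (5 + 1)
        rw [pow_succ, hw5, one_mul]
      rw [hw6']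
      exact Subgroup.pow_mem _ hw2 3
    · apply hcyc
      have hvne : ((v : G) : Perm α) ≠ 1 := fun h => hv1 (Subtype.ext h)
      have hvo : orderOf ((v : G) : Perm α) = 5 := orderOf_eq_prime hv5 hvne
      have hsub : ((v : G) : Perm α).support ⊆ g.support \ (g.cycleOf z).support := by
        intro u hu
        rw [Perm.mem_support] at hu
        rw [Finset.mem_sdiff, mem_support_cycleOf_iff]
        refine ⟨?_, ?_⟩
        · rw [Perm.mem_support]
          intro hgu
          apply hu
          show ((w : Perm α) ^ 2 * (g ^ i)⁻¹) u = u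
          rw [Perm.mul_apply, Perm.inv_eq_iff_eq.2 (zpow_apply_eq_self_of_apply_eq_self hgu i).symm]
          exact pow_apply_eq_self_of_apply_eq_self (hwfix u hgu) 2
        · rintro ⟨⟨j, hj⟩, -⟩
          apply hu
          have hvz : ((v : G) : Perm α) z = z := by
            show ((w : Perm α) ^ 2 * (g ^ i)⁻¹) z = z
            rw [((hcg.pow_left 2).zpow_right i).inv_right.eq, Perm.mul_apply, hi,
              ← Perm.mul_apply, inv_mul_cancel, Perm.one_apply]
          rw [← hj, ← Perm.mul_apply, (hvC.zpow_right j).eq, Perm.mul_apply, hvz]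
      have hcard : ((v : G) : Perm α).support.card ≤ 5 := by
        refine (Finset.card_le_card hsub).trans ?_
        rw [Finset.card_sdiff_of_subset (support_cycleOf_le g z), hsupp, hord z hz]
      have hvc : ((v : G) : Perm α).IsCycle :=
        isCycle_of_prime_order (by rw [hvo]; norm_num) (by omega)
      exact ⟨_, v.2, hvc, by rw [← hvc.orderOf, hvo]⟩
  -- Witt's lemma
  obtain ⟨h, hh, hha, hhb, hhc⟩ := exists_mem_map_three G h3 hab hac hbc hbc hab.symm hac.symm
  let K : Subgroup G := stabilizer G a ⊓ stabilizer G b ⊓ stabilizer G c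
  have hgK : (⟨g, hg⟩ : G) ∈ K := ⟨⟨(hfix a).2 (Or.inl rfl), (hfix b).2 (Or.inr (Or.inl rfl))⟩,
    (hfix c).2 (Or.inr (Or.inr rfl))⟩
  have hfc : ∀ z z', h z = z' → g z = z → (h * g * h⁻¹) z' = z' := fun z z' hz hgz => by
    rw [← hz, ← Perm.mul_apply, inv_mul_cancel_right, Perm.mul_apply, hgz]
  have hg'K : (⟨h, hh⟩ : G) * ⟨g, hg⟩ * ⟨h, hh⟩⁻¹ ∈ K :=
    ⟨⟨hfc c a hhc ((hfix c).2 (Or.inr (Or.inr rfl))), hfc a b hha ((hfix a).2 (Or.inl rfl))⟩,
      hfc b c hhb ((hfix b).2 (Or.inr (Or.inl rfl)))⟩
  have hfac : (Nat.card K).factorization 5 = 1 := by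
    have hpos : Nat.card K ≠ 0 := Nat.card_pos.ne'
    have a1 : 1 ≤ (Nat.card K).factorization 5 := by
      have h' := orderOf_dvd_natCard (⟨_, hgK⟩ : K)
      rw [Subgroup.orderOf_mk, Subgroup.orderOf_mk, hgo] at h'
      exact (Nat.Prime.dvd_iff_one_le_factorization (by norm_num) hpos).1 h'
    have a2 : ¬ 2 ≤ (Nat.card K).factorization 5 := fun h' => h25
      (((Nat.Prime.pow_dvd_iff_le_factorization (by norm_num) hpos).2 h').trans
        (Subgroup.card_subgroup_dvd_card K))
    omega
  let P₁ : Sylow 5 K := Sylow.ofCard (Subgroup.zpowers ⟨_, hgK⟩)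
    (by rw [Nat.card_zpowers, Subgroup.orderOf_mk, Subgroup.orderOf_mk, hgo, hfac, pow_one])
  let P₂ : Sylow 5 K := Sylow.ofCard (Subgroup.zpowers ⟨_, hg'K⟩)
    (by
      rw [Nat.card_zpowers, Subgroup.orderOf_mk, ← MulAut.conj_apply, MulEquiv.orderOf_eq,
        Subgroup.orderOf_mk, hgo, hfac, pow_one])
  obtain ⟨u, hu⟩ := MulAction.exists_smul_eq K P₂ P₁
  have hmem : u * ⟨_, hg'K⟩ * u⁻¹ ∈ Subgroup.zpowers (⟨_, hgK⟩ : K) := by
    have h1 : MulAut.conj u (⟨_, hg'K⟩ : K) ∈ ((u • P₂ : Sylow 5 K) : Subgroup K) := by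
      rw [Sylow.coe_subgroup_smul]
      exact Subgroup.smul_mem_pointwise_smul _ (MulAut.conj u) _ (Subgroup.mem_zpowers _)
    rw [hu, MulAut.conj_apply] at h1
    exact h1
  rw [← mem_powers_iff_mem_zpowers] at hmem
  obtain ⟨r, hr⟩ := hmem
  have hr' : (((u : G) : Perm α) * h) * g * (((u : G) : Perm α) * h)⁻¹ = g ^ r := by
    have := congrArg (fun k : K => ((k : G) : Perm α)) hr
    simp only [SubmonoidClass.coe_pow, Subgroup.coe_mul, Subgroup.coe_inv] at this
    rw [this]; group
  set n := ((u : G) : Perm α) * h with hndef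
  have hn4 := commute_pow_sub_one_of_conj_eq_pow (by norm_num) hgo hr'
  have hna : n a = b := by rw [hndef, Perm.mul_apply, hha]; exact u.2.1.2
  have hnb : n b = c := by rw [hndef, Perm.mul_apply, hhb]; exact u.2.2
  have hnc : n c = a := by rw [hndef, Perm.mul_apply, hhc]; exact u.2.1.1
  let T : Perm α := (n ^ (5 - 1)) ^ 10
  have hT : ∀ z, z = a ∨ z = b ∨ z = c → T z = n z := by
    intro z hz
    have h3z : (n ^ 3) z = z := by
      rcases hz with rfl | rfl | rfl <;>
        simp only [show (3 : ℕ) = 1 + 1 + 1 by rfl, pow_succ, pow_zero, one_mul, Perm.mul_apply,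
          hna, hnb, hnc]
    show ((n ^ (5 - 1)) ^ 10) z = n z
    rw [← pow_mul, show (5 - 1) * 10 = 1 + 3 * 13 by rfl, pow_add, Perm.mul_apply, pow_mul,
      pow_apply_eq_self_of_apply_eq_self h3z 13, pow_one]
  have hTs : T.support = {a, b, c} := by
    ext z
    rw [Perm.mem_support, ← habc, Finset.mem_compl, Perm.notMem_support]
    by_cases hz : g z = z
    · refine iff_of_true ?_ hz
      rw [hT z ((hfix z).1 hz)]
      rcases (hfix z).1 hz with rfl | rfl | rfl
      · rw [hna]; exact hab.symm
      · rw [hnb]; exact hbc.symm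
      · rw [hnc]; exact hac
    · exact iff_of_false (fun h' => h' (hten _ hn4 z (Perm.mem_support.2 hz))) hz
  refine alternatingGroup_le_of_isPreprimitive_of_isThreeCycle_mem hG
    (g := T) (card_support_eq_three_iff.1 ?_) ?_
  · rw [hTs]; exact Finset.card_eq_three.2 ⟨a, b, c, hab, hac, hbc, rfl⟩
  · exact G.pow_mem (G.pow_mem (G.mul_mem (u : G).2 hh) _) _

/-- An involution normalizing an eleven-cycle and fixing its fixed points is odd. -/
theorem sign_eq_neg_one_of_inverting {x u : Perm α} (hxc : x.IsCycle) (hxs : x.support.card = 11)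
    (huu : u * u = 1) (hu1 : u ≠ 1) (hufix : ∀ z, x z = z → u z = z) {l : ℤ}
    (hl : u * x * u⁻¹ = x ^ l) : Perm.sign u = -1 := by
  haveI : Fact (Nat.Prime 11) := ⟨by norm_num⟩
  have hxo : orderOf x = 11 := by rw [hxc.orderOf, hxs]
  have hus : ∀ z, u z ∈ x.support ↔ z ∈ x.support := fun z => by
    constructor
    · intro h
      by_contra hz
      rw [hufix z (Perm.notMem_support.1 hz)] at h
      exact hz h
    · intro h
      by_contra hz
      have h1 := hufix _ (Perm.notMem_support.1 hz)
      rw [u.injective h1] at hz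
      exact hz h
  let u' := u.subtypePerm hus
  let x' := x.subtypePerm (p := fun z => z ∈ x.support) fun z => apply_mem_support
  obtain ⟨z₀, hz₀⟩ := Finset.card_pos.1 (show 0 < x.support.card by omega)
  have hx'o : orderOf x' = 11 := by
    refine orderOf_eq_prime ?_ ?_
    · apply Perm.ext
      intro z
      apply Subtype.ext
      show ((x' ^ 11) z : α) = z
      rw [subtypePerm_pow, subtypePerm_apply]
      show (x ^ 11) (z : α) = z
      exact DFunLike.congr_fun (hxo ▸ pow_orderOf_eq_one x : x ^ 11 = 1) (z : α)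
    · intro h
      exact Perm.mem_support.1 hz₀
        (congrArg Subtype.val (DFunLike.congr_fun h (⟨z₀, hz₀⟩ : {z // z ∈ x.support})))
  have hu'2 : u' * u' = 1 := by
    ext z
    exact DFunLike.congr_fun huu (z : α)
  have hu'1 : u' ≠ 1 := by
    intro h
    apply hu1
    ext z
    by_cases hz : z ∈ x.support
    · exact congrArg Subtype.val (DFunLike.congr_fun h ⟨z, hz⟩)
    · exact hufix z (Perm.notMem_support.1 hz)
  have hu'n : u' * x' * u'⁻¹ ∈ Subgroup.zpowers x' := by
    refine ⟨l, ?_⟩
    show x' ^ l = u' * x' * u'⁻¹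
    rw [eq_mul_inv_iff_mul_eq]
    apply Perm.ext
    intro z
    apply Subtype.ext
    rw [subtypePerm_zpow]
    show (x ^ l) (u z) = u (x z)
    rw [← Perm.mul_apply, ← Perm.mul_apply]
    exact DFunLike.congr_fun (mul_inv_eq_iff_eq_mul.1 hl).symm (z : α)
  obtain ⟨e, -, he⟩ := PermLib.exists_coords_reflection
    (Ω := {z // z ∈ x.support}) (p := 11) (by norm_num)
    (by rw [Fintype.card_coe, hxs]) hx'o hu'2 hu'1 hu'n
  have hsg := sign_eq_neg_one_of_reflection e (u := u') he (by decide)
  rw [← hsg]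
  convert (sign_subtypePerm (p := fun z => z ∈ x.support) u hus (fun z hz => by
    by_contra hzs
    exact hz (hufix z (Perm.notMem_support.1 hzs)))).symm

set_option maxHeartbeats 1000000 in
/-- In degree thirteen a primitive group of even permutations with an eleven-cycle contains
`Alt`. -/
theorem alt_le_thirteen (G : Subgroup (Perm α)) (hG : IsPreprimitive G α)
    (hA : G ≤ alternatingGroup α) (hn : Fintype.card α = 13) {x : Perm α} (hxc : x.IsCycle)
    (hxs : x.support.card = 11) (hx : x ∈ G) : alternatingGroup α ≤ G := by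
  have h3 := three_pretransitive_of_cycle G hG (by norm_num) hxc hxs hx (by omega)
  by_cases h5 : 5 ∣ Nat.card G
  · exact alt_le_thirteen_of_five G hG hn h3 h5
  exfalso
  haveI : Fact (Nat.Prime 11) := ⟨by norm_num⟩
  have hxo : orderOf x = 11 := by rw [hxc.orderOf, hxs]
  obtain ⟨a, b, hab, hfx⟩ :=
    Finset.card_eq_two.1 (show x.supportᶜ.card = 2 by rw [Finset.card_compl, hn, hxs])
  have hxfix : ∀ z, x z = z ↔ z = a ∨ z = b := fun z => by
    rw [← Perm.notMem_support, ← Finset.mem_compl, hfx]; simp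
  set S : Set α := (x.support : Set α)ᶜ with hS
  have hmemS : ∀ z, z ∈ S ↔ z = a ∨ z = b := fun z => by
    rw [hS, Set.mem_compl_iff, Finset.mem_coe, Perm.notMem_support]; exact hxfix z
  let A : Subgroup G := stabilizer G a
  have hxA : (⟨x, hx⟩ : G) ∈ A := (hxfix a).2 (Or.inl rfl)
  let σ : A := ⟨⟨x, hx⟩, hxA⟩
  have hσ : orderOf σ = 11 := by rw [Subgroup.orderOf_mk, Subgroup.orderOf_mk, hxo]
  -- the Sylow `11`-subgroup of the point stabilizer
  have hfac : (Nat.card A).factorization 11 = 1 := by
    have hpos : Nat.card A ≠ 0 := Nat.card_pos.ne'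
    have hd : Nat.card A ∣ Nat.factorial 13 := by
      have h := (Subgroup.card_subgroup_dvd_card A).trans (Subgroup.card_subgroup_dvd_card G)
      rwa [Nat.card_perm, Nat.card_eq_fintype_card (α := α), hn] at h
    have a1 : 1 ≤ (Nat.card A).factorization 11 :=
      ((Fact.out : Nat.Prime 11).dvd_iff_one_le_factorization hpos).1
        (hσ ▸ orderOf_dvd_natCard σ)
    have a2 : ¬ 2 ≤ (Nat.card A).factorization 11 := fun h' => by
      have := ((Nat.Prime.pow_dvd_iff_le_factorization (by norm_num) hpos).2 h').trans hd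
      revert this
      decide
    omega
  let P : Sylow 11 A := Sylow.ofCard (Subgroup.zpowers σ)
    (by rw [Nat.card_zpowers, hσ, hfac, pow_one])
  have hPz : (P : Subgroup A) = Subgroup.zpowers σ := rfl
  -- self-normalization
  have hnorm : ∀ t : A, t * σ * t⁻¹ ∈ Subgroup.zpowers σ → t ∈ Subgroup.zpowers σ := by
    intro t ht
    rw [← mem_powers_iff_mem_zpowers] at ht
    obtain ⟨r, hr⟩ := ht
    have hr' : ((t : G) : Perm α) * x * ((t : G) : Perm α)⁻¹ = x ^ r := by
      have := congrArg (fun k : A => ((k : G) : Perm α)) hr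
      simp only [SubmonoidClass.coe_pow, Subgroup.coe_mul, Subgroup.coe_inv] at this
      exact this.symm
    set τ := ((t : G) : Perm α) with hτ
    have hta : τ a = a := t.2
    have hr0 : r.Coprime (orderOf x) := by
      rw [hxo, Nat.coprime_comm, Nat.Prime.coprime_iff_not_dvd (by norm_num)]
      intro hd
      rw [orderOf_dvd_iff_pow_eq_one.1 (hxo.symm ▸ hd), conj_eq_one_iff] at hr'
      rw [hr', orderOf_one] at hxo
      omega
    have htb : τ b = b := by
      obtain ⟨m, hm⟩ := exists_pow_eq_self_of_coprime hr0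
      have h1 : (x ^ r) (τ b) = τ b := by
        rw [← hr', Perm.mul_apply, Perm.mul_apply, ← Perm.mul_apply _ τ, inv_mul_cancel,
          Perm.one_apply, (hxfix b).2 (Or.inr rfl)]
      have h2 : x (τ b) = τ b := by
        conv_lhs => rw [← hm]
        exact pow_apply_eq_self_of_apply_eq_self h1 m
      exact ((hxfix _).1 h2).resolve_left fun e => hab (τ.injective (hta.trans e.symm))
    have hτfix : ∀ (m : ℕ) z, x z = z → (τ ^ m) z = z := fun m z hz => by
      rcases (hxfix z).1 hz with rfl | rfl
      · exact pow_apply_eq_self_of_apply_eq_self hta m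
      · exact pow_apply_eq_self_of_apply_eq_self htb m
    have hc := commute_pow_sub_one_of_conj_eq_pow (by norm_num) hxo hr'
    obtain ⟨i, hi⟩ := PermLib.exists_pow_eq_on_support hxc hc
    have h10 : τ ^ 10 = x ^ i := by
      ext z
      by_cases hz : z ∈ x.support
      · exact hi z hz
      · rw [hτfix 10 z (Perm.notMem_support.1 hz),
          zpow_apply_eq_self_of_apply_eq_self (Perm.notMem_support.1 hz) i]
    have hcast : ∀ (m : ℕ), ((((t ^ m : A) : G)) : Perm α) = τ ^ m := fun m => by
      rw [SubmonoidClass.coe_pow, SubmonoidClass.coe_pow]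
    have h10' : t ^ 10 = σ ^ i := by
      apply Subtype.ext; apply Subtype.ext
      rw [hcast, h10, SubgroupClass.coe_zpow, SubgroupClass.coe_zpow]
    have h22 : τ ^ 22 = 1 := by
      have h110 : τ ^ 110 = 1 := by
        rw [show (110 : ℕ) = 10 * 11 by rfl, pow_mul, h10, ← zpow_natCast, ← zpow_mul, mul_comm,
          zpow_mul, zpow_natCast, ← hxo, pow_orderOf_eq_one, one_zpow]
      rw [← orderOf_dvd_iff_pow_eq_one]
      refine (Nat.Coprime.dvd_mul_right (n := 5) ?_).1 (orderOf_dvd_iff_pow_eq_one.2 h110)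
      rw [Nat.coprime_comm, Nat.Prime.coprime_iff_not_dvd (by norm_num)]
      intro hd
      apply h5
      refine hd.trans ?_
      rw [hτ, Subgroup.orderOf_coe]
      exact orderOf_dvd_natCard _
    by_cases h11 : τ ^ 11 = 1
    · have h11' : t ^ 11 = 1 := by
        apply Subtype.ext; apply Subtype.ext
        rw [hcast]; exact h11
      rw [show t = t ^ 11 * (t ^ 10)⁻¹ by rw [pow_succ' t 10, mul_inv_cancel_right], h11', one_mul,
        h10']
      exact inv_mem ⟨i, rfl⟩
    · -- an involution inverting an eleven-cycle is odd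
      exfalso
      set u := τ ^ 11 with hu
      have huu : u * u = 1 := by rw [hu, ← pow_add]; exact h22
      have hk : ∀ k : ℕ, τ ^ k * x * (τ ^ k)⁻¹ ∈ Subgroup.zpowers x := by
        intro k
        induction k with
        | zero => simp
        | succ k ih =>
          obtain ⟨l, hl⟩ := ih
          rw [show τ ^ (k + 1) * x * (τ ^ (k + 1))⁻¹ = τ * (τ ^ k * x * (τ ^ k)⁻¹) * τ⁻¹ by
            rw [pow_succ']; group, ← hl, ← conj_zpow, hr']
          exact zpow_mem (pow_mem (Subgroup.mem_zpowers x) r) l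
      obtain ⟨l, hl⟩ := hk 11
      have hsg := sign_eq_neg_one_of_inverting hxc hxs huu h11
        (fun z hz => hτfix 11 z hz) hl.symm
      have hs1 : Perm.sign u = 1 := mem_alternatingGroup.1 (hA (G.pow_mem (t : G).2 11))
      rw [hs1] at hsg
      exact absurd hsg (by decide)
  have hNP : Subgroup.normalizer ((P : Subgroup A) : Set A) ≤ (P : Subgroup A) := by
    intro t ht
    rw [hPz] at ht ⊢
    exact hnorm t ((Subgroup.mem_normalizer_iff.1 ht σ).1 (Subgroup.mem_zpowers σ))
  have hcentral : Subgroup.normalizer ((P : Subgroup A) : Set A) ≤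
      Subgroup.centralizer ((P : Subgroup A) : Set A) := fun t ht => by
    have := hNP ht
    rw [hPz] at this
    obtain ⟨i, rfl⟩ := this
    rw [Subgroup.mem_centralizer_iff]
    rintro s hs
    rw [hPz] at hs
    obtain ⟨j, rfl⟩ := hs
    exact zpow_mul_comm σ j i
  -- Burnside's transfer theorem
  obtain ⟨K, hKn, hKP, hK11⟩ :
      ∃ K : Subgroup A, K.Normal ∧ K.IsComplement' P ∧ ¬ 11 ∣ Nat.card K :=
    ⟨_, MonoidHom.normal_ker _, MonoidHom.ker_transferSylow_isComplement' P hcentral,
      MonoidHom.not_dvd_card_ker_transferSylow P hcentral⟩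
  have hKb : ∀ k : K, (((k : A) : G) : Perm α) b = b → k = 1 := by
    let L : Subgroup G := fixingSubgroup G S
    have hLA : L ≤ A := fun l hl => (mem_fixingSubgroup_iff G).1 hl a ((hmemS a).2 (Or.inl rfl))
    let M : Subgroup L := (K.map A.subtype).subgroupOf L
    have hMn : M.Normal := by
      refine ⟨fun m hm l => ?_⟩
      obtain ⟨k, hk, hke⟩ := hm
      exact ⟨⟨(l : G), hLA l.2⟩ * k * (⟨(l : G), hLA l.2⟩ : A)⁻¹, hKn.conj_mem k hk _, by
        rw [map_mul, map_mul, map_inv, hke]; rfl⟩
    haveI := Equiv.Perm.isPretransitive_of_isCycle_mem hxc hx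
    have hcard : Nat.card (SubMulAction.ofFixingSubgroup G S) = 11 := by
      have h1 : Nat.card (SubMulAction.ofFixingSubgroup G S) = Sᶜ.ncard := rfl
      rw [h1, hS, compl_compl, Set.ncard_coe_finset, hxs]
    haveI : IsPreprimitive L (SubMulAction.ofFixingSubgroup G S) :=
      IsPreprimitive.of_prime_card (hcard.symm ▸ Fact.out)
    have hM : fixedPoints M (SubMulAction.ofFixingSubgroup G S) = Set.univ := by
      by_contra hne
      haveI := IsQuasiPreprimitive.isPretransitive_of_normal (N := M) hne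
      haveI : Nonempty (SubMulAction.ofFixingSubgroup G S) :=
        (Nat.card_pos_iff.1 (hcard.symm ▸ Nat.succ_pos 10)).1
      apply hK11
      rw [← hcard]
      refine (PermLib.card_dvd_card (G := M)).trans ?_
      rw [← Subgroup.card_map_of_injective (Subgroup.subtype_injective L),
        ← Subgroup.card_map_of_injective (K := K) (Subgroup.subtype_injective A)]
      refine Subgroup.card_dvd_of_le ?_
      rw [Subgroup.subgroupOf_map_subtype]
      exact inf_le_left
    intro k hk
    apply Subtype.ext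
    apply Subtype.ext
    apply Subtype.ext
    ext z
    show (((k : A) : G) : Perm α) z = z
    by_cases hz : z ∈ S
    · rcases (hmemS z).1 hz with rfl | rfl
      · exact (k : A).2
      · exact hk
    · have hkL : ((k : A) : G) ∈ L := (mem_fixingSubgroup_iff G).2 fun y hy => by
        rcases (hmemS y).1 hy with rfl | rfl
        · exact (k : A).2
        · exact hk
      have := (Set.eq_univ_iff_forall.1 hM ⟨z, hz⟩) ⟨⟨_, hkL⟩, ⟨(k : A), k.2, rfl⟩⟩
      exact congrArg Subtype.val this
  have hcard13 : ({z : α | z ≠ a}).ncard = 12 := by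
    rw [show {z : α | z ≠ a} = ({a} : Set α)ᶜ from rfl, Set.ncard_compl,
      Set.ncard_singleton, Nat.card_eq_fintype_card, hn]
  have hK12 : Nat.card K ≤ 12 := by
    rw [← hcard13, ← Nat.card_coe_set_eq]
    refine Nat.card_le_card_of_injective (fun k => ⟨(((k : A) : G) : Perm α) b, fun e => hab
      ((((k : A) : G) : Perm α).injective ((k : A).2.trans e.symm))⟩) fun k₁ k₂ h => ?_
    have h : (((k₁ : A) : G) : Perm α) b = (((k₂ : A) : G) : Perm α) b := congrArg Subtype.val h
    refine inv_mul_eq_one.1 (hKb (k₁⁻¹ * k₂) ?_)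
    show ((((k₁ : A) : G) : Perm α)⁻¹ * (((k₂ : A) : G) : Perm α)) b = b
    rw [Perm.mul_apply, ← h, ← Perm.mul_apply, inv_mul_cancel, Perm.one_apply]
  have hA12 : 12 ∣ Nat.card A := by
    have h := Subgroup.index_dvd_card (stabilizer A b)
    rw [index_stabilizer] at h
    convert h using 1
    rw [← hcard13]
    refine congrArg Set.ncard (Set.ext fun z => ⟨fun hz => ?_, ?_⟩)
    · obtain ⟨c, hc⟩ : ∃ c, c ≠ a ∧ c ≠ b := by
        obtain ⟨c, hc⟩ := Finset.card_pos.1 (show 0 < x.support.card by omega)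
        rw [Perm.mem_support] at hc
        exact ⟨c, fun e => hc (by rw [e]; exact (hxfix a).2 (Or.inl rfl)),
          fun e => hc (by rw [e]; exact (hxfix b).2 (Or.inr rfl))⟩
      obtain ⟨d, hd⟩ : ∃ d, d ≠ a ∧ d ≠ z := by
        by_cases hcz : c = z
        · exact ⟨b, hab.symm, fun e => hc.2 (hcz.trans e.symm)⟩
        · exact ⟨c, hc.1, hcz⟩
      obtain ⟨g, hg, ga, gb, -⟩ := exists_mem_map_three G h3 hab hc.1.symm hc.2.symm
        (Ne.symm hz) hd.1.symm hd.2.symm
      exact ⟨⟨⟨g, hg⟩, ga⟩, gb⟩
    · rintro ⟨g, rfl⟩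
      exact fun e => hab ((((g : G)) : Perm α).injective (g.2.trans e.symm))
  have hK12' : Nat.card K = 12 := by
    refine le_antisymm hK12 (Nat.le_of_dvd Nat.card_pos ?_)
    refine (Nat.Coprime.dvd_mul_right (n := 11) (by norm_num)).1 ?_
    have h := hKP.card_mul
    rw [hPz, Nat.card_zpowers, hσ] at h
    rwa [h]
  -- conjugates of an element of prime order
  have hmany : ∀ q : ℕ, q.Prime → q ∣ 12 → q ≠ 11 →
      11 ≤ Nat.card {k : K // orderOf k = q} := by
    intro q hq hqd hq11
    haveI := Fact.mk hq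
    obtain ⟨k, hk⟩ := exists_prime_orderOf_dvd_card' (G := K) q (hK12'.symm ▸ hqd)
    rw [← Nat.card_fin 11]
    refine Nat.card_le_card_of_injective (fun i : Fin 11 =>
      ⟨MulAut.conjNormal (σ ^ (i : ℕ)) k, by rw [MulEquiv.orderOf_eq, hk]⟩) fun i j h => ?_
    have h := congrArg (fun m : {k : K // orderOf k = q} => ((m.1 : K) : A)) h
    simp only [MulAut.conjNormal_apply] at h
    by_contra hij
    -- a nontrivial power of `σ` commuting with `k`
    have hcom : Commute (((σ ^ (i : ℕ))⁻¹ * σ ^ (j : ℕ))) (k : A) := by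
      show (σ ^ (i : ℕ))⁻¹ * σ ^ (j : ℕ) * k = k * ((σ ^ (i : ℕ))⁻¹ * σ ^ (j : ℕ))
      calc (σ ^ (i : ℕ))⁻¹ * σ ^ (j : ℕ) * k
          = (σ ^ (i : ℕ))⁻¹ * (σ ^ (j : ℕ) * k * (σ ^ (j : ℕ))⁻¹) * σ ^ (j : ℕ) := by group
        _ = (σ ^ (i : ℕ))⁻¹ * (σ ^ (i : ℕ) * k * (σ ^ (i : ℕ))⁻¹) * σ ^ (j : ℕ) := by rw [h]
        _ = k * ((σ ^ (i : ℕ))⁻¹ * σ ^ (j : ℕ)) := by group
    have hne : (σ ^ (i : ℕ))⁻¹ * σ ^ (j : ℕ) ≠ 1 := by
      rw [ne_eq, inv_mul_eq_one]
      intro e
      exact hij (Fin.ext (pow_injOn_Iio_orderOf (by rw [hσ]; exact i.2) (by rw [hσ]; exact j.2) e))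
    have hgen : σ ∈ Subgroup.zpowers ((σ ^ (i : ℕ))⁻¹ * σ ^ (j : ℕ)) := by
      have hle : Subgroup.zpowers ((σ ^ (i : ℕ))⁻¹ * σ ^ (j : ℕ)) ≤ Subgroup.zpowers σ :=
        Subgroup.zpowers_le.2 (mul_mem (inv_mem (pow_mem (Subgroup.mem_zpowers σ) _))
          (pow_mem (Subgroup.mem_zpowers σ) _))
      have hd := Subgroup.card_dvd_of_le hle
      rw [Nat.card_zpowers, Nat.card_zpowers, hσ] at hd
      have ho := ((Nat.dvd_prime (by norm_num)).1 hd).resolve_left fun e => hne
        (orderOf_eq_one_iff.1 e)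
      rw [Subgroup.eq_of_le_of_card_ge hle (by rw [Nat.card_zpowers, Nat.card_zpowers, hσ, ho])]
      exact Subgroup.mem_zpowers σ
    obtain ⟨l, hl⟩ := hgen
    have hcσ : Commute σ (k : A) := by
      rw [← hl]; exact hcom.zpow_left l
    have hkP : (k : A) ∈ Subgroup.zpowers σ :=
      hnorm _ (by rw [← hcσ.eq, mul_inv_cancel_right]; exact Subgroup.mem_zpowers σ)
    have hd := orderOf_dvd_of_mem_zpowers hkP
    rw [Subgroup.orderOf_coe, hk, hσ] at hd
    exact hq11 ((Nat.prime_dvd_prime_iff_eq hq (by norm_num)).1 hd)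
  have h2 := hmany 2 Nat.prime_two (by norm_num) (by norm_num)
  have h3' := hmany 3 Nat.prime_three (by norm_num) (by norm_num)
  have hle : Nat.card {k : K // orderOf k = 2} + Nat.card {k : K // orderOf k = 3}
      ≤ Nat.card K := by
    rw [← Nat.card_sum]
    refine Nat.card_le_card_of_injective (Sum.elim Subtype.val Subtype.val) ?_
    rintro (⟨u, hu⟩ | ⟨u, hu⟩) (⟨v, hv⟩ | ⟨v, hv⟩) (h : u = v) <;> subst h
    · rfl
    · omega
    · omega
    · rfl
  omega

end Cfsg.Agent.FGSev
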