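import Cfsg.Agent.Coprime.Action
import Cfsg.Agent.Lib.FrobeniusComplement
import Mathlib.GroupTheory.SpecificGroups.ZGroup

/-!
Coprime action on a group all of whose Sylow subgroups are cyclic.
-/

namespace Cfsg.Agent.FGSev

open Subgroup

variable {G : Type*} [Group G] [Finite G]

/-- Two power maps on a cyclic normalised subgroup commute. -/
theorem conj_conj_comm {M : Subgroup G} [IsCyclic M] {a k : G}
    (ha : ∀ m ∈ M, a * m * a⁻¹ ∈ M) (hk : ∀ m ∈ M, k * m * k⁻¹ ∈ M) {m : G} (hm : m ∈ M) :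
    a * (k * m * k⁻¹) * a⁻¹ = k * (a * m * a⁻¹) * k⁻¹ := by
  obtain ⟨⟨g, hg⟩, hgen⟩ := IsCyclic.exists_generator (α := M)
  obtain ⟨i, hi⟩ := hgen ⟨_, ha g hg⟩
  obtain ⟨j, hj⟩ := hgen ⟨_, hk g hg⟩
  obtain ⟨n, hn⟩ := hgen ⟨m, hm⟩
  have hi' : g ^ i = a * g * a⁻¹ := congrArg Subtype.val hi
  have hj' : g ^ j = k * g * k⁻¹ := congrArg Subtype.val hj
  have hn' : g ^ n = m := congrArg Subtype.val hn
  subst hn'
  have h1 : ∀ l : ℤ, a * g ^ l * a⁻¹ = g ^ (i * l) := fun l => by
    rw [← conj_zpow, ← hi', ← _root_.zpow_mul]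
  have h2 : ∀ l : ℤ, k * g ^ l * k⁻¹ = g ^ (j * l) := fun l => by
    rw [← conj_zpow, ← hj', ← _root_.zpow_mul]
  rw [h2, h1, h1, h2, ← mul_assoc i, ← mul_assoc j, mul_comm i j]

/-- Coprime action on a Z-group: the commutator is cyclic, normal, of order coprime to that of
the fixed-point subgroup, which complements it. -/
theorem zgroup_action {A K : Subgroup G} [IsZGroup K] (hAK : A ≤ normalizer (K : Set G))
    (hcop : (Nat.card A).Coprime (Nat.card K)) :
    IsCyclic (⁅K, A⁆ : Subgroup G) ∧ ⁅K, A⁆ ≤ K ∧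
      K ≤ normalizer ((⁅K, A⁆ : Subgroup G) : Set G) ∧
      ⁅K, A⁆ ⊓ (K ⊓ centralizer (A : Set G)) = ⊥ ∧
      ⁅K, A⁆ ⊔ (K ⊓ centralizer (A : Set G)) = K ∧
      (Nat.card (⁅K, A⁆ : Subgroup G)).Coprime (Nat.card ↥(K ⊓ centralizer (A : Set G))) := by
  have hDK := Coprime.commutator_le_of_le_normalizer (A := A) (K := K) hAK
  have hDn := Coprime.le_normalizer_commutator_left K A
  have hsup := Coprime.commutator_sup_centralizer hAK hcop (Or.inr (inferInstance : Group.IsSolvable K))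
  set M : Subgroup G := ⁅K, K⁆ with hM
  have hMe : (commutator K).map K.subtype = M := Subgroup.map_subtype_commutator K
  haveI hMcyc : IsCyclic M := by
    haveI := IsZGroup.isCyclic_commutator (G := K)
    rw [← hMe]
    exact isCyclic_of_surjective _
      ((commutator K).equivMapOfInjective K.subtype K.subtype_injective).surjective
  have hMK : M ≤ K := commutator_le_self K
  have haM : ∀ a ∈ normalizer (K : Set G), ∀ m ∈ M, a * m * a⁻¹ ∈ M := fun a ha m hm => by
    have h : M ≤ M.comap (MulAut.conj a).toMonoidHom := by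
      conv_lhs => rw [hM]
      rw [commutator_le]
      intro u hu v hv
      rw [mem_comap, map_commutatorElement]
      exact commutator_mem_commutator ((mem_normalizer_iff.1 ha u).1 hu)
        ((mem_normalizer_iff.1 ha v).1 hv)
    exact h hm
  set U : Subgroup G := K ⊓ centralizer (M : Set G) with hU
  haveI hUz : IsZGroup U := IsZGroup.of_injective (inclusion_injective inf_le_left)
  have hUc : IsMulCommutative U := by
    let f : U →* Abelianization K := Abelianization.of.comp (inclusion inf_le_left)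
    haveI := IsZGroup.isCyclic_abelianization (G := K)
    have hf : f.ker ≤ center U := by
      intro u hu
      rw [MonoidHom.mem_ker, MonoidHom.comp_apply] at hu
      have hu' : inclusion inf_le_left u ∈ commutator K := (QuotientGroup.eq_one_iff _).1 hu
      have huM : (u : G) ∈ M := hMe ▸ ⟨_, hu', rfl⟩
      rw [mem_center_iff]
      intro v
      exact Subtype.ext (mem_centralizer_iff.1 v.2.2 u huM).symm
    exact ⟨⟨fun a b => commutative_of_cyclic_center_quotient f hf a b⟩⟩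
  haveI : Group.IsNilpotent U := ⟨⟨1, by
    rw [Subgroup.upperCentralSeries_one, eq_top_iff]
    exact fun a _ => mem_center_iff.2 fun b => hUc.is_comm.comm b a⟩⟩
  haveI : IsCyclic U := inferInstance
  have hDU : ⁅K, A⁆ ≤ U := by
    refine le_inf hDK ?_
    rw [commutator_le]
    intro k hk a ha
    rw [mem_centralizer_iff]
    intro m hm
    have hkn : ∀ m ∈ M, k * m * k⁻¹ ∈ M := haM k (le_normalizer hk)
    have han : ∀ m ∈ M, a * m * a⁻¹ ∈ M := haM a (hAK ha)
    have hki : k⁻¹ * m * k ∈ M := by simpa using haM k⁻¹ (inv_mem (le_normalizer hk)) m hm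
    have hai : a⁻¹ * (k⁻¹ * m * k) * a ∈ M := by
      simpa using haM a⁻¹ (inv_mem (hAK ha)) _ hki
    have h := conj_conj_comm han hkn hai
    simp only [commutatorElement_def]
    have h' : k * a * k⁻¹ * a⁻¹ * m = m * (k * a * k⁻¹ * a⁻¹) := by
      have e : a * (k * (a⁻¹ * (k⁻¹ * m * k) * a) * k⁻¹) * a⁻¹ = m := by
        rw [h]; group
      calc k * a * k⁻¹ * a⁻¹ * m
          = k * a * k⁻¹ * a⁻¹ * (a * (k * (a⁻¹ * (k⁻¹ * m * k) * a) * k⁻¹) * a⁻¹) := by rw [e]
        _ = m * (k * a * k⁻¹ * a⁻¹) := by group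
    exact h'.symm
  have hcyc : IsCyclic (⁅K, A⁆ : Subgroup G) :=
    isCyclic_of_injective (inclusion hDU) (inclusion_injective hDU)
  have hAU : A ≤ normalizer (U : Set G) := by
    intro a ha
    rw [mem_normalizer_iff]
    have key : ∀ a ∈ normalizer (K : Set G), ∀ u ∈ U, a * u * a⁻¹ ∈ U := by
      intro a ha u hu
      refine ⟨(mem_normalizer_iff.1 ha u).1 hu.1, mem_centralizer_iff.2 fun m hm => ?_⟩
      have := mem_centralizer_iff.1 hu.2 (a⁻¹ * m * a) (by simpa using haM a⁻¹ (inv_mem ha) m hm)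
      calc m * (a * u * a⁻¹) = a * (a⁻¹ * m * a * u) * a⁻¹ := by group
        _ = a * (u * (a⁻¹ * m * a)) * a⁻¹ := by rw [this]
        _ = a * u * a⁻¹ * m := by group
    intro u
    refine ⟨key a (hAK ha) u, fun h => ?_⟩
    have := key a⁻¹ (inv_mem (hAK ha)) _ h
    simpa [mul_assoc] using this
  have hbot : ⁅K, A⁆ ⊓ (K ⊓ centralizer (A : Set G)) = ⊥ := by
    rw [eq_bot_iff]
    rintro x ⟨hxD, -, hxC⟩
    have hcU : (Nat.card A).Coprime (Nat.card U) :=
      hcop.coprime_dvd_right (card_dvd_of_le inf_le_left)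
    rw [← Coprime.centralizer_inf_commutator_eq_bot hAU hcU]
    refine ⟨⟨hDU hxD, hxC⟩, ?_⟩
    rw [← Coprime.commutator_commutator_eq hAK hcop] at hxD
    exact commutator_mono hDU le_rfl hxD
  refine ⟨hcyc, hDK, hDn, hbot, hsup, Nat.coprime_of_dvd fun r hr hrD hrC => ?_⟩
  haveI := Fact.mk hr
  obtain ⟨⟨d, hdD⟩, hdo⟩ := exists_prime_orderOf_dvd_card' r hrD
  obtain ⟨⟨c, hcC⟩, hco⟩ := exists_prime_orderOf_dvd_card' r hrC
  rw [orderOf_mk] at hdo hco
  -- the order-`r` subgroup of the cyclic normal subgroup meets every Sylow subgroup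
  have hcN : c ∈ normalizer ((zpowers d : Subgroup G) : Set G) := by
    have key : ∀ k ∈ K, ∀ x ∈ zpowers d, k * x * k⁻¹ ∈ zpowers d := by
      intro k hk x hx
      obtain ⟨n, rfl⟩ := hx
      rw [← conj_zpow]
      refine zpow_mem ?_ n
      have hmem : k * d * k⁻¹ ∈ ⁅K, A⁆ := (mem_normalizer_iff.1 (hDn hk) d).1 hdD
      have hd' : orderOf (⟨_, hmem⟩ : (⁅K, A⁆ : Subgroup G)) = r := by
        rw [orderOf_mk, ← MulAut.conj_apply, MulEquiv.orderOf_eq, hdo]
      have hd'' : orderOf (⟨d, hdD⟩ : (⁅K, A⁆ : Subgroup G)) = r := by rw [orderOf_mk, hdo]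
      have heq : zpowers (⟨_, hmem⟩ : (⁅K, A⁆ : Subgroup G)) = zpowers ⟨d, hdD⟩ := by
        haveI := hcyc
        exact FrobeniusCompl.eq_of_card_eq (by rw [Nat.card_zpowers, Nat.card_zpowers, hd', hd''])
      have := heq ▸ mem_zpowers (⟨_, hmem⟩ : (⁅K, A⁆ : Subgroup G))
      obtain ⟨i, hi⟩ := this
      exact ⟨i, congrArg Subtype.val hi⟩
    rw [mem_normalizer_iff]
    intro x
    refine ⟨key c hcC.1 x, fun h => ?_⟩
    have := key c⁻¹ (inv_mem hcC.1) _ h
    simpa [mul_assoc] using this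
  have hN : zpowers c ≤ normalizer ((zpowers d : Subgroup G) : Set G) := zpowers_le.2 hcN
  set W := zpowers c ⊔ zpowers d with hW
  have hWK : W ≤ K := sup_le (zpowers_le.2 hcC.1) (zpowers_le.2 (hDK hdD))
  have hWp : IsPGroup r W :=
    (IsPGroup.of_card (n := 1) (by rw [Nat.card_zpowers, hco, pow_one])).to_sup_of_normal_right'
      (IsPGroup.of_card (n := 1) (by rw [Nat.card_zpowers, hdo, pow_one])) hN
  haveI : IsCyclic W := by
    haveI := (hWp.of_equiv (subgroupOfEquivOfLe hWK).symm).isCyclic_of_isZGroup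
    exact isCyclic_of_surjective _ (subgroupOfEquivOfLe hWK).surjective
  have heq : zpowers (⟨c, le_sup_left (b := zpowers d) (mem_zpowers c)⟩ : W) =
      zpowers ⟨d, le_sup_right (a := zpowers c) (mem_zpowers d)⟩ :=
    FrobeniusCompl.eq_of_card_eq (by rw [Nat.card_zpowers, Nat.card_zpowers, orderOf_mk, orderOf_mk, hco, hdo])
  obtain ⟨i, hi⟩ := heq ▸ mem_zpowers (⟨c, le_sup_left (b := zpowers d) (mem_zpowers c)⟩ : W)
  have hcd : c ∈ ⁅K, A⁆ := by
    have hi' : d ^ i = c := congrArg Subtype.val hi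
    exact hi' ▸ zpow_mem hdD i
  have hc1 : c ∈ (⊥ : Subgroup G) := hbot ▸ ⟨hcd, hcC⟩
  rw [mem_bot] at hc1
  rw [hc1, orderOf_one] at hco
  exact hr.one_lt.ne hco

end Cfsg.Agent.FGSev
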